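import Mathlib.NumberTheory.Cyclotomic.PrimitiveRoots
import Mathlib.NumberTheory.LegendreSymbol.AddCharacter
import Mathlib.Data.Rat.Lemmas

/-!
# Circulant incidence structures of prime order

A subset of `ZMod p` (`p` an odd prime) whose self-correlation is constant away from zero and whose
`p`-th convolution power is constant away from one point is a singleton or the complement of one.
-/

set_option autoImplicit false

namespace Cfsg.Agent.DoublyPrimitive

open Finset

variable {p : ℕ} [hp : Fact p.Prime]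

/-- The self-correlation of `D`. -/
def cor (D : Finset (ZMod p)) (t : ZMod p) : ℕ := (D.filter fun s => s - t ∈ D).card

/-- The convolution powers of `D`. -/
def conv (D : Finset (ZMod p)) : ℕ → ZMod p → ℤ
  | 0, t => if t = 0 then 1 else 0
  | i + 1, t => ∑ j ∈ D, conv D i (t - j)

section eval

variable {K : Type*} [Field K] (ψ : AddChar (ZMod p) K)

/-- Evaluation of a function at a character. -/
def ev (f : ZMod p → K) : K := ∑ t, f t * ψ t

theorem ev_conv (D : Finset (ZMod p)) (i : ℕ) :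
    ev ψ (fun t => (conv D i t : K)) = (∑ j ∈ D, ψ j) ^ i := by
  induction i with
  | zero => simp [ev, conv]
  | succ i ih =>
    rw [pow_succ, ← ih]
    simp only [ev, conv, Int.cast_sum, sum_mul, mul_sum]
    rw [sum_comm]
    refine sum_congr rfl fun j _ => ?_
    rw [← Equiv.sum_comp (Equiv.addRight j)]
    refine sum_congr rfl fun t _ => ?_
    simp only [Equiv.coe_addRight, add_sub_cancel_right, AddChar.map_add_eq_mul, mul_assoc]

theorem ev_eq_of_const (hψ : ψ ≠ 1) (f : ZMod p → K) (t₀ : ZMod p) (β : K)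
    (h : ∀ t, t ≠ t₀ → f t = β) : ev ψ f = (f t₀ - β) * ψ t₀ := by
  have h1 : ∀ t, f t * ψ t = (if t = t₀ then (f t₀ - β) * ψ t₀ else 0) + β * ψ t := by
    intro t
    rcases eq_or_ne t t₀ with rfl | ht
    · rw [if_pos rfl]; ring
    · rw [if_neg ht, h t ht, zero_add]
  simp only [ev, h1, sum_add_distrib, sum_ite_eq', mem_univ, if_true, ← mul_sum,
    AddChar.sum_eq_zero_of_ne_one hψ, mul_zero, add_zero]

theorem mul_eq_ev_cor (D : Finset (ZMod p)) :
    (∑ j ∈ D, ψ j) * (∑ j ∈ D, ψ (-j)) = ev ψ fun t => (cor D t : K) := by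
  simp only [ev, cor, card_filter, Nat.cast_sum, Nat.cast_ite, Nat.cast_one, Nat.cast_zero,
    sum_mul]
  rw [sum_comm]
  refine sum_congr rfl fun s _ => ?_
  rw [mul_sum, ← Equiv.sum_comp (Equiv.subLeft s) (fun t : ZMod p => (if s - t ∈ D then (1:K)
    else 0) * ψ t)]
  simp only [Equiv.subLeft_apply, sub_sub_cancel, ite_mul, one_mul, zero_mul, sum_ite_mem,
    univ_inter]
  refine sum_congr rfl fun j _ => ?_
  rw [sub_eq_add_neg, AddChar.map_add_eq_mul]

end eval

/-- A rational relation among the powers of a primitive `p`-th root of unity has equal coefficients. -/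
theorem coeff_const {K : Type*} [Field K] [CharZero K] [IsCyclotomicExtension {p} ℚ K] {ζ : K}
    (hζ : IsPrimitiveRoot ζ p) (a : ZMod p → ℚ)
    (h : ∑ t, (a t : K) * ζ ^ t.val = 0) (s t : ZMod p) : a s = a t := by
  have hψ : ∑ t : ZMod p, ζ ^ t.val = 0 := by
    have h1 := (AddChar.zmodChar_primitive_of_primitive_root p hζ)
    have h2 : AddChar.zmodChar p hζ.pow_eq_one ≠ 1 := fun e => by
      have h3 := congrArg (fun χ : AddChar (ZMod p) K => χ 1) e
      simp only [AddChar.zmodChar_apply, AddChar.one_apply, ZMod.val_one, pow_one] at h3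
      exact hζ.ne_one hp.out.one_lt h3
    simpa [AddChar.zmodChar_apply] using AddChar.sum_eq_zero_of_ne_one h2
  set z : ZMod p := -1
  have hz : z.val = p - 1 := by
    obtain ⟨n, rfl⟩ : ∃ n, p = n + 1 := ⟨p - 1, by have := hp.out.pos; omega⟩
    simp [z]
  suffices H : ∀ t, a t = a z by rw [H s, H t]
  have h' : ∑ t : ZMod p, ((a t - a z : ℚ) : K) * ζ ^ t.val = 0 := by
    simp only [Rat.cast_sub, sub_mul, sum_sub_distrib, h, ← mul_sum, hψ, mul_zero, sub_zero]
  have hdeg : (minpoly ℚ ζ).natDegree = p - 1 := by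
    rw [← Polynomial.cyclotomic_eq_minpoly_rat hζ hp.out.pos, Polynomial.natDegree_cyclotomic,
      Nat.totient_prime hp.out]
  have hli := linearIndependent_pow (K := ℚ) ζ
  intro t
  by_contra hne
  have htz : t ≠ z := fun e => hne (by rw [e])
  have hval : ∀ x : ZMod p, x ≠ z → x.val < (minpoly ℚ ζ).natDegree := by
    intro x hx
    have h1 := x.val_lt
    have h2 : x.val ≠ z.val := fun e => hx (ZMod.val_injective p e)
    rw [hdeg]; omega
  let c : Fin (minpoly ℚ ζ).natDegree → ℚ := fun i => a (i : ℕ) - a z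
  have hsum : ∑ i, c i • ζ ^ (i : ℕ) = 0 := by
    rw [← h']
    refine sum_bij_ne_zero (fun i _ _ => ((i : ℕ) : ZMod p)) (fun _ _ _ => mem_univ _)
      (fun i _ _ j _ _ e => ?_) (fun x _ hx => ?_) (fun i _ _ => ?_)
    · apply Fin.ext
      have hi := lt_of_lt_of_eq i.2 hdeg
      have hj := lt_of_lt_of_eq j.2 hdeg
      have e' := congrArg ZMod.val e
      rwa [ZMod.val_natCast_of_lt (by omega), ZMod.val_natCast_of_lt (by omega)] at e'
    · have hxz : x ≠ z := fun e => hx (by rw [e, sub_self, Rat.cast_zero, zero_mul])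
      refine ⟨⟨x.val, hval x hxz⟩, mem_univ _, ?_, ZMod.natCast_zmod_val x⟩
      simpa [c, Rat.smul_def] using hx
    · have hi := lt_of_lt_of_eq i.2 hdeg
      simp only [c, Rat.smul_def, ZMod.val_natCast_of_lt (show (i : ℕ) < p by omega)]
  have := Fintype.linearIndependent_iff.1 hli c hsum ⟨t.val, hval t htz⟩
  exact hne (by simpa [c, sub_eq_zero] using this)

/-- The combinatorial lemma. -/
theorem exists_point (hp2 : p ≠ 2) (D : Finset (ZMod p)) (hne : D.Nonempty) (hnu : D ≠ univ)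
    (hcor : ∀ s t : ZMod p, s ≠ 0 → t ≠ 0 → cor D s = cor D t) (t₀ : ZMod p)
    (hpow : ∀ s t : ZMod p, s ≠ t₀ → t ≠ t₀ → conv D p s = conv D p t) :
    ∃ i, ∀ t, t ≠ i → (t ∈ D ↔ i ∉ D) := by
  let K := CyclotomicField p ℚ
  haveI : CharZero K := charZero_of_injective_algebraMap (algebraMap ℚ K).injective
  haveI : NeZero p := ⟨hp.out.ne_zero⟩
  haveI : IsCyclotomicExtension {p} ℚ K := CyclotomicField.isCyclotomicExtension p ℚ
  obtain ⟨ζ, hζ⟩ : ∃ ζ : K, IsPrimitiveRoot ζ p :=
    IsCyclotomicExtension.exists_isPrimitiveRoot ℚ K (Set.mem_singleton p) hp.out.ne_zero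
  let χ : AddChar (ZMod p) K := AddChar.zmodChar p hζ.pow_eq_one
  have hχ : ∀ t, χ t = ζ ^ t.val := fun t => rfl
  have hχ1 : χ ≠ 1 := fun e => by
    have h3 := congrArg (fun ψ : AddChar (ZMod p) K => ψ 1) e
    simp only [hχ, AddChar.one_apply, ZMod.val_one, pow_one] at h3
    exact hζ.ne_one hp.out.one_lt h3
  have hχ' : χ⁻¹ ≠ 1 := inv_ne_one.2 hχ1
  have hex : ∀ t₁ : ZMod p, ∃ t₂, t₂ ≠ t₁ := fun t₁ => ⟨t₁ + 1, by simp⟩
  obtain ⟨t₂, ht₂⟩ := hex t₀
  set c : ℤ := conv D p t₀ - conv D p t₂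
  obtain ⟨t₃, ht₃⟩ := hex 0
  set m : ℤ := (cor D 0 : ℤ) - cor D t₃
  set F : K := ∑ j ∈ D, χ j with hF
  set F' : K := ∑ j ∈ D, χ (-j) with hF'
  have hFp : F ^ p = (c : K) * χ t₀ := by
    rw [hF, ← ev_conv, ev_eq_of_const χ hχ1 _ t₀ (conv D p t₂ : K)
      (fun t ht => by rw [hpow t t₂ ht ht₂])]
    simp [c]
  have hF'p : F' ^ p = (c : K) * χ (-t₀) := by
    have e : F' = ∑ j ∈ D, χ⁻¹ j := sum_congr rfl fun j _ => (AddChar.inv_apply χ j).symm
    rw [e, ← ev_conv, ev_eq_of_const χ⁻¹ hχ' _ t₀ (conv D p t₂ : K)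
      (fun t ht => by rw [hpow t t₂ ht ht₂]), AddChar.inv_apply]
    simp [c]
  have hFF' : F * F' = (m : K) := by
    rw [hF, hF', mul_eq_ev_cor, ev_eq_of_const χ hχ1 _ 0 (cor D t₃ : K)
      (fun t ht => by rw [hcor t t₃ ht ht₃]), AddChar.map_zero_eq_one, mul_one]
    simp [m]
  have hmc : m ^ p = c ^ 2 := by
    have h : (m : K) ^ p = (c : K) ^ 2 := by
      rw [← hFF', mul_pow, hFp, hF'p, mul_mul_mul_comm, ← AddChar.map_add_eq_mul, add_neg_cancel,
        AddChar.map_zero_eq_one, mul_one, sq]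
    exact_mod_cast h
  have hconst : ∀ (r : ℚ) (i : ZMod p), F = (r : K) * χ i → ∀ t, t ≠ i → (t ∈ D ↔ i ∉ D) := by
    intro r i hri
    let a : ZMod p → ℚ := fun t => (if t ∈ D then 1 else 0) - (if t = i then r else 0)
    have hsum : ∑ t, (a t : K) * ζ ^ t.val = 0 := by
      simp only [a, Rat.cast_sub, sub_mul, sum_sub_distrib, ← hχ]
      rw [sub_eq_zero]
      simp only [apply_ite (fun x : ℚ => (x : K)), Rat.cast_one, Rat.cast_zero, ite_mul, one_mul,
        zero_mul, sum_ite_mem, univ_inter, sum_ite_eq', mem_univ, if_true]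
      exact hri
    intro t ht
    have h1 := coeff_const hζ a hsum
    constructor
    · intro htD hiD
      apply hnu
      refine eq_univ_iff_forall.2 fun s => ?_
      rcases eq_or_ne s i with rfl | hs
      · exact hiD
      · have h2 := h1 s t
        simp only [a, if_neg hs, if_neg ht, if_pos htD, sub_zero] at h2
        by_contra h
        rw [if_neg h] at h2
        exact zero_ne_one h2
    · intro hiD
      by_contra htD
      obtain ⟨s, hs⟩ := hne
      have hsi : s ≠ i := fun e => hiD (e ▸ hs)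
      have h2 := h1 s t
      simp only [a, if_neg hsi, if_neg ht, if_pos hs, if_neg htD, sub_zero] at h2
      exact one_ne_zero h2
  have hF0 : F ≠ 0 := by
    intro h0
    have h := hconst 0 0 (by rw [h0, Rat.cast_zero, zero_mul]) 
    have h' := hconst 0 1 (by rw [h0, Rat.cast_zero, zero_mul])
    obtain ⟨s, hs⟩ := hne
    obtain ⟨u, hu⟩ : ∃ u, u ∉ D := by
      by_contra hall
      push Not at hall
      exact hnu (eq_univ_iff_forall.2 hall)
    have h1 := coeff_const hζ (fun t => if t ∈ D then (1 : ℚ) else 0) (by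
      simp only [apply_ite (fun x : ℚ => (x : K)), Rat.cast_one, Rat.cast_zero, ite_mul, one_mul,
        zero_mul, sum_ite_mem, univ_inter, ← hχ]
      exact h0) s u
    simp [hs, hu] at h1
  have hc0 : c ≠ 0 := by
    intro h
    apply hF0
    have : F ^ p = 0 := by rw [hFp, h, Int.cast_zero, zero_mul]
    exact eq_zero_of_pow_eq_zero this
  obtain ⟨k, hk⟩ := hp.out.odd_of_ne_two hp2
  have hm0 : m ≠ 0 := by
    intro h
    rw [h, zero_pow hp.out.ne_zero] at hmc
    exact hc0 (sq_eq_zero_iff.1 hmc.symm)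
  have hsq : IsSquare m := by
    rw [← Rat.isSquare_intCast_iff]
    refine ⟨(c : ℚ) / (m : ℚ) ^ k, ?_⟩
    have h : (m : ℚ) ^ p = (c : ℚ) ^ 2 := by exact_mod_cast hmc
    have hm : (m : ℚ) ≠ 0 := by exact_mod_cast hm0
    field_simp
    rw [← h, hk]
    ring
  obtain ⟨r, hr⟩ := hsq
  have hr0 : r ≠ 0 := fun h => hm0 (by rw [hr, h, mul_zero])
  have hrK : (r : K) ≠ 0 := Int.cast_ne_zero.2 hr0
  let η : K := F / r
  have hη : η ^ (2 * p) = χ (2 • t₀) := by
    simp only [η, div_pow]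
    rw [div_eq_iff (pow_ne_zero _ hrK), mul_comm 2 p, pow_mul, hFp, mul_pow,
      AddChar.map_nsmul_eq_pow]
    have h : (c : K) ^ 2 = ((r : K) ^ p) ^ 2 := by
      have h' : c ^ 2 = (r * r) ^ p := by rw [← hr, hmc]
      rw [← pow_mul, mul_comm p 2, pow_mul]
      have h'' : (c : K) ^ 2 = ((r : K) * r) ^ p := by
        have := congrArg (fun x : ℤ => (x : K)) h'
        simp only [Int.cast_pow] at this
        rw [this, ← Int.cast_mul]
      rw [h'', sq]
    rw [h, ← pow_mul]
    ring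
  have hfin : IsOfFinOrder η := by
    refine isOfFinOrder_iff_pow_eq_one.2 ⟨2 * p * p, by have := hp.out.pos; positivity, ?_⟩
    rw [pow_mul, hη, ← AddChar.map_nsmul_eq_pow]
    simp [AddChar.map_zero_eq_one]
  obtain ⟨i, hi, hη'⟩ := hζ.exists_pow_or_neg_mul_pow_of_isOfFinOrder (hp.out.odd_of_ne_two hp2) hfin
  have hχi : χ (i : ZMod p) = ζ ^ i := by rw [hχ, ZMod.val_natCast_of_lt hi]
  have hFη : F = η * r := (div_mul_cancel₀ F hrK).symm
  rcases hη' with h | h
  · exact ⟨i, hconst (r : ℚ) i (by rw [hFη, h, hχi]; push_cast; ring)⟩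
  · exact ⟨i, hconst (-r : ℚ) i (by rw [hFη, h, hχi]; push_cast; ring)⟩

end Cfsg.Agent.DoublyPrimitive
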