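import Cfsg.Agent.Lib.DoublyPrimitive.Kernel

/-!
# A subgroup of the two-point stabiliser whose fixed points form a line leads to a contradiction
-/

set_option autoImplicit false
set_option linter.unusedSectionVars false

namespace Cfsg.Agent.DoublyPrimitive

open MulAction

variable {G Ω : Type*} [Group G] [Finite G] [Finite Ω] [MulAction G Ω] {p : ℕ}

namespace Sys

/-- A subgroup of `G_xy`, normalised by it, whose fixed points are exactly the line. -/
def HasX (S : Sys G Ω p) (x y : Ω) : Prop :=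
  ∃ N : Subgroup G, N ≤ stabilizer G x ⊓ stabilizer G y ∧
    (∀ g ∈ stabilizer G x ⊓ stabilizer G y, ∀ n ∈ N, g⁻¹ * n * g ∈ N) ∧ fix N = S.Line x y

variable (S : Sys G Ω p) (hS : Setting G Ω p)
include S hS

theorem HasX.transport {a b x y : Ω} (hb : b ≠ a) (hy : y ≠ x) (h : S.HasX a b) : S.HasX x y := by
  obtain ⟨N, hN, hn, hfix⟩ := h
  obtain ⟨g, hga, hgb⟩ := exists_map hS (Ne.symm hb) (Ne.symm hy)
  refine ⟨N.comap (MulAut.conj g⁻¹).toMonoidHom, ?_, ?_, ?_⟩
  · intro n hn'
    have h1 : g⁻¹ * n * g ∈ N := by simpa [MulAut.conj_apply] using hn'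
    refine ⟨mem_stabilizer_iff.2 ?_, mem_stabilizer_iff.2 ?_⟩
    · have h2 := mem_stabilizer_iff.1 (hN h1).1
      rw [mul_smul, mul_smul, inv_smul_eq_iff, hga] at h2
      exact h2
    · have h2 := mem_stabilizer_iff.1 (hN h1).2
      rw [mul_smul, mul_smul, inv_smul_eq_iff, hgb] at h2
      exact h2
  · intro k hk n hn'
    have h1 : g⁻¹ * n * g ∈ N := by simpa [MulAut.conj_apply] using hn'
    have hk' : g⁻¹ * k * g ∈ stabilizer G a ⊓ stabilizer G b := by
      refine ⟨mem_stabilizer_iff.2 ?_, mem_stabilizer_iff.2 ?_⟩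
      · rw [mul_smul, mul_smul, hga, mem_stabilizer_iff.1 hk.1, ← hga, inv_smul_smul]
      · rw [mul_smul, mul_smul, hgb, mem_stabilizer_iff.1 hk.2, ← hgb, inv_smul_smul]
    have h2 := hn _ hk' _ h1
    have e : g⁻¹ * (k⁻¹ * n * k) * g = (g⁻¹ * k * g)⁻¹ * (g⁻¹ * n * g) * (g⁻¹ * k * g) := by group
    rw [← e] at h2
    simpa [MulAut.conj_apply] using h2
  · ext z
    rw [← hga, ← hgb]
    constructor
    · intro hz
      have h1 : g⁻¹ • z ∈ fix N := fun n hnN => by
        have h2 := hz (g * n * g⁻¹) (by simp [MulAut.conj_apply, mul_assoc]; exact hnN)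
        rw [mul_smul, mul_smul] at h2
        exact smul_left_cancel g (h2.trans (smul_inv_smul g z).symm)
      rw [hfix] at h1
      rcases h1 with h1 | h1
      · exact Set.mem_insert_iff.2 (Or.inl (by rw [← h1, smul_inv_smul]))
      · have h2 := S.smul g h1
        rw [smul_inv_smul] at h2
        exact Set.mem_insert_of_mem _ h2
    · intro hz n hn'
      have h1 : g⁻¹ * n * g ∈ N := by simpa [MulAut.conj_apply] using hn'
      have hz' : g⁻¹ • z ∈ fix N := by
        rw [hfix]
        rcases hz with rfl | hz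
        · exact Set.mem_insert_iff.2 (Or.inl (inv_smul_smul g a))
        · have h2 := S.smul g⁻¹ hz
          rw [inv_smul_smul, inv_smul_smul] at h2
          exact Set.mem_insert_of_mem _ h2
      have h3 := hz' _ h1
      rw [mul_smul, mul_smul, smul_inv_smul] at h3
      exact smul_left_cancel g⁻¹ h3

/-- For such a pair the line is the fixed point set of `a`'s stabiliser in the kernel at `b`. -/
theorem fix_Kst_eq {a b : Ω} (hb : b ≠ a) (h : S.HasX a b) :
    fix (S.Kst b a) = S.Line a b := by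
  have hp := hS.prime
  obtain ⟨N, hN, hn, hfix⟩ := h
  have hN' : N ≤ stabilizer G b ⊓ stabilizer G a := fun n hn' => ⟨(hN hn').2, (hN hn').1⟩
  have hn' : ∀ g ∈ stabilizer G b ⊓ stabilizer G a, ∀ n ∈ N, g⁻¹ * n * g ∈ N :=
    fun g hg => hn g ⟨hg.2, hg.1⟩
  have hab : a ≠ b := Ne.symm hb
  -- (i) the line meets the class of `a` seen from `b` only in `a`
  have hi : ∀ z ∈ S.blk b a, z ∈ fix N → z = a := by
    intro z hz hzf
    by_contra hza
    have horb := (S.relIndex_SB hS hab).2
    have h1 : orbit (S.SB b a) a ⊆ fix N := orbit_subset_fix_of_second hp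
      (hN'.trans S.inf_stab_le_SB) (by rw [horb, S.ncard_blk hab]) (horb.symm.subset hz) hza
      (fun n hnN => mem_stabilizer_iff.1 (hN hnN).1) hzf
      (fun g hg hga n hnN => hn g ⟨mem_stabilizer_iff.2 hga, mem_stabilizer_iff.2 hg.1⟩ n hnN)
    rw [horb, hfix] at h1
    have h2 : S.Line b a ⊆ S.Line a b :=
      Set.insert_subset (Set.mem_insert_of_mem _ (S.refl hb)) h1
    exact S.not_symm_line hS hab (Set.eq_of_subset_of_ncard_le h2
      (by rw [S.ncard_Line hab, S.ncard_Line hb])).symm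
  obtain ⟨c₀, hc₀, hc₀b⟩ : ∃ c ∈ S.blk a b, c ≠ b := by
    by_contra hall
    push Not at hall
    have := Set.ncard_le_ncard (fun z hz => Set.mem_singleton_iff.2 (hall z hz) :
      S.blk a b ⊆ {b})
    rw [S.ncard_blk hb, Set.ncard_singleton] at this
    have := hp.two_le
    omega
  have hmemfix : ∀ c ∈ S.blk a b, c ∈ fix N := fun c hc => by
    rw [hfix]; exact Set.mem_insert_of_mem _ hc
  -- (ii) `N` fixes the classes seen from `b`
  have hii : N ≤ S.Ker b := by
    refine S.le_Ker_of_fix hS hab hc₀b (fun h => ?_) hN' hn' (hmemfix c₀ hc₀)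
      (S.orbit_Ker hS hab)
    exact S.ne_right hc₀ (hi c₀ h (hmemfix c₀ hc₀))
  -- (iii) the points of the line are fixed by the stabiliser of `a`
  refine Set.Subset.antisymm ?_ ?_
  · rw [← hfix]
    exact fun z hz n hnN => hz n ⟨hii hnN, (hN hnN).1⟩
  · rintro z (rfl | hz)
    · exact fun g hg => mem_stabilizer_iff.1 hg.2
    intro g hg
    rcases eq_or_ne z b with rfl | hzb
    · exact hg.1.1
    obtain ⟨c', hc', hKst⟩ := S.exists_eq_Kst hS hab hzb
    rcases eq_or_ne z c' with rfl | hne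
    · exact mem_stabilizer_iff.1 (hKst.ge hg).2
    exfalso
    have hc'b : c' ≠ b := S.ne_right hc'
    have horb := S.orbit_Ker hS hc'b
    have hblk : S.blk b c' = S.blk b z := S.blk_eq hc'
    have h1 : orbit (S.Ker b) c' ⊆ fix N := orbit_subset_fix_of_second hp hii
      (by rw [horb, S.ncard_blk hc'b]) (horb.symm.subset (S.symm hc')) hne
      (fun n hnN => mem_stabilizer_iff.1 (hKst.ge (show n ∈ S.Kst b a from ⟨hii hnN, (hN hnN).1⟩)).2)
      (hmemfix z hz) (fun k hk hkc n hnN => by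
        have hk' : k ∈ S.Kst b a := hKst.le ⟨hk, mem_stabilizer_iff.2 hkc⟩
        exact hn k ⟨hk'.2, mem_stabilizer_iff.2 hk'.1.1⟩ n hnN)
    rw [horb, hblk] at h1
    have hbot : ∀ n ∈ N, n = 1 := fun n hnN =>
      S.eq_one_of_fix_blk hS hzb (hii hnN) fun w hw => h1 hw n hnN
    have huniv : fix N = (Set.univ : Set Ω) :=
      Set.eq_univ_of_forall fun w n hnN => by rw [hbot n hnN, one_smul]
    have h4 := congrArg Set.ncard (hfix.symm.trans huniv)
    rw [S.ncard_Line hb, Set.ncard_univ, hS.degree] at h4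
    have := hp.two_le
    nlinarith

/-- No pair has such a subgroup. -/
theorem not_hasX {a b : Ω} (hb : b ≠ a) : ¬ S.HasX a b := by
  intro h
  have hp := hS.prime
  obtain ⟨c, hc, hcb⟩ : ∃ c ∈ S.blk a b, c ≠ b := by
    by_contra hall
    push Not at hall
    have := Set.ncard_le_ncard (fun z hz => Set.mem_singleton_iff.2 (hall z hz) :
      S.blk a b ⊆ {b})
    rw [S.ncard_blk hb, Set.ncard_singleton] at this
    have := hp.two_le
    omega
  have hab : a ≠ b := Ne.symm hb
  have h1 := S.fix_Kst_eq hS hb h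
  have hle : S.Kst b a ≤ S.Kst b c := fun g hg =>
    ⟨hg.1, mem_stabilizer_iff.2 (by
      have h2 : c ∈ fix (S.Kst b a) := h1.symm ▸ Set.mem_insert_of_mem _ hc
      exact h2 g hg)⟩
  have heq : S.Kst b a = S.Kst b c :=
    Subgroup.eq_of_le_of_card_ge hle (le_of_eq (Nat.eq_of_mul_eq_mul_left hp.pos
      ((S.card_Kst hS hcb).trans (S.card_Kst hS hab).symm)))
  have h3 := S.fix_Kst_eq hS hcb.symm (HasX.transport S hS hb hcb.symm h)
  rw [← heq, h1] at h3
  exact S.ne_right hc (S.base_unique hS hb hcb.symm h3).symm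

/-- A normal subgroup of the stabiliser inside the kernel has semiregular centraliser. -/
theorem centralizer_inf_eq_bot {a b : Ω} (hb : b ≠ a) {M : Subgroup G} (hM : M ≤ S.Ker a)
    (hMn : ∀ g : G, g • a = a → ∀ m ∈ M, g⁻¹ * m * g ∈ M) (hMt : orbit M b = S.blk a b) :
    stabilizer G a ⊓ stabilizer G b ⊓ Subgroup.centralizer (M : Set G) = ⊥ := by
  set X := stabilizer G a ⊓ stabilizer G b ⊓ Subgroup.centralizer (M : Set G) with hX
  have hnorm : ∀ g ∈ stabilizer G a ⊓ stabilizer G b, ∀ n ∈ X, g⁻¹ * n * g ∈ X := by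
    intro g hg n hn
    refine ⟨(stabilizer G a ⊓ stabilizer G b).mul_mem ((stabilizer G a ⊓ stabilizer G b).mul_mem
      ((stabilizer G a ⊓ stabilizer G b).inv_mem hg) hn.1) hg,
      Subgroup.mem_centralizer_iff.2 fun m hm => ?_⟩
    have h1 : g * m * g⁻¹ ∈ M := by
      have h := hMn g⁻¹ (inv_smul_eq_iff.2 (mem_stabilizer_iff.1 hg.1).symm) m hm
      rwa [inv_inv] at h
    have h2 := Subgroup.mem_centralizer_iff.1 hn.2 _ h1
    calc m * (g⁻¹ * n * g) = g⁻¹ * ((g * m * g⁻¹) * n) * g := by group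
      _ = g⁻¹ * (n * (g * m * g⁻¹)) * g := by rw [h2]
      _ = g⁻¹ * n * g * m := by group
  by_contra hne
  refine S.not_hasX hS hb ⟨X, inf_le_left, hnorm, ?_⟩
  have hblk : S.blk a b ⊆ fix X := by
    rw [← hMt]
    rintro _ ⟨⟨m, hm⟩, rfl⟩ n hn
    show n • m • b = m • b
    rw [← mul_smul, ← Subgroup.mem_centralizer_iff.1 hn.2 m hm, mul_smul,
      mem_stabilizer_iff.1 hn.1.2]
  refine Set.Subset.antisymm (fun z hz => ?_) ?_
  · by_contra hzL
    have hza : z ≠ a := fun e => hzL (e ▸ Set.mem_insert _ _)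
    have hnz : ¬ S.R a b z := fun h => hzL (Set.mem_insert_of_mem _ h)
    have hle : X ≤ S.Ker a :=
      S.le_Ker_of_fix hS hb hza hnz inf_le_left hnorm hz (S.orbit_Ker hS hb)
    exact hne ((Subgroup.eq_bot_iff_forall _).2 fun n hn =>
      S.eq_one_of_fix_blk hS hb (hle hn) fun w hw => hblk hw n hn)
  · rintro z (rfl | hz)
    · exact fun n hn => mem_stabilizer_iff.1 hn.1.1
    · exact hblk hz

end Sys

end Cfsg.Agent.DoublyPrimitive
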