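import Cfsg.Agent.Lib.DoublyPrimitive.Sylow
import Cfsg.Agent.Lib.DoublyPrimitive.Circulant
import Cfsg.Agent.Lib.SelfNormNonabelian.SimpleMain

/-!
# The kernel on the classes

Every class contains a point whose stabiliser in the kernel equals that of a given point.
-/

set_option autoImplicit false
set_option linter.unusedSectionVars false

namespace Cfsg.Agent.DoublyPrimitive

open MulAction

variable {G Ω : Type*} [Group G] [Finite G] [Finite Ω] [MulAction G Ω] {p : ℕ}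

namespace Sys

/-- The kernel has a subgroup of order `p` normal in the stabiliser. -/
def NormalCyc (S : Sys G Ω p) (a : Ω) : Prop :=
  ∃ τ, τ ∈ S.Ker a ∧ orderOf τ = p ∧ ∀ g : G, g • a = a → g * τ * g⁻¹ ∈ Subgroup.zpowers τ

variable (S : Sys G Ω p) (hS : Setting G Ω p)
include S hS

/-- An element of order `p` of the kernel generates the only such subgroup if that is normal. -/
theorem mem_zpowers_of_normal {a b : Ω} (hb : b ≠ a) {τ : G} (hτ : τ ∈ S.Ker a)
    (ho : orderOf τ = p) (hn : ∀ g ∈ S.Ker a, g * τ * g⁻¹ ∈ Subgroup.zpowers τ)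
    {x : G} (hx : x ∈ S.Ker a) (hxo : orderOf x = p) : x ∈ Subgroup.zpowers τ := by
  have hp := hS.prime
  let A : Subgroup (S.Ker a) := (Subgroup.zpowers τ).subgroupOf (S.Ker a)
  haveI : A.Normal := ⟨fun m hm k => by
    obtain ⟨i, hi⟩ := Subgroup.mem_zpowers_iff.1 (Subgroup.mem_subgroupOf.1 hm)
    refine Subgroup.mem_subgroupOf.2 ?_
    simp only [Subgroup.coe_mul, Subgroup.coe_inv, ← hi]
    rw [← conj_zpow]
    exact Subgroup.zpow_mem _ (hn k k.2) i⟩
  have hle : Subgroup.zpowers τ ≤ S.Ker a := Subgroup.zpowers_le.2 hτ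
  have hAc : Nat.card A = p := by
    rw [Nat.card_congr (Subgroup.subgroupOfEquivOfLe hle).toEquiv, Nat.card_zpowers, ho]
  have hK := S.card_Kst hS hb
  have hcard := Subgroup.card_eq_card_quotient_mul_card_subgroup A
  rw [hAc, ← hK, mul_comm _ p] at hcard
  have hq : Nat.card (S.Ker a ⧸ A) = Nat.card (S.Kst a b) :=
    (Nat.eq_of_mul_eq_mul_left hp.pos hcard).symm
  have h1 : orderOf (QuotientGroup.mk (s := A) (⟨x, hx⟩ : S.Ker a)) ∣ p := by
    have h := orderOf_map_dvd (QuotientGroup.mk' A) (⟨x, hx⟩ : S.Ker a)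
    rwa [Subgroup.orderOf_mk, hxo] at h
  rcases (Nat.dvd_prime hp).1 h1 with h | h
  · rw [orderOf_eq_one_iff, QuotientGroup.eq_one_iff] at h
    exact Subgroup.mem_subgroupOf.1 h
  · have h2 := orderOf_dvd_natCard (QuotientGroup.mk (s := A) (⟨x, hx⟩ : S.Ker a))
    rw [h, hq] at h2
    exact absurd h2 (S.not_dvd_Kst hS hb)

/-- Burnside: either the kernel has a normal subgroup of order `p`, or it is doubly transitive on
each class. -/
theorem transitive_of_not_normalCyc {a b : Ω} (hb : b ≠ a) (hnc : ¬ S.NormalCyc a) {c d : Ω}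
    (hc : c ∈ S.blk a b) (hd : d ∈ S.blk a b) (hcb : c ≠ b) (hdb : d ≠ b) :
    ∃ k ∈ S.Kst a b, k • c = d := by
  classical
  have hp := hS.prime
  haveI : Fact p.Prime := ⟨hp⟩
  let X := orbit (S.Ker a) b
  have hX : Nat.card X = p := by
    show (orbit (S.Ker a) b).ncard = p
    rw [S.orbit_Ker hS hb, S.ncard_blk hb]
  let φ : S.Ker a →* Equiv.Perm X := MulAction.toPermHom (S.Ker a) X
  have hφ : Function.Injective φ := by
    rw [injective_iff_map_eq_one]
    intro k hk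
    apply Subtype.ext
    refine S.eq_one_of_fix_blk hS hb k.2 fun z hz => ?_
    have h := congrArg (fun σ : Equiv.Perm X => (σ ⟨z, (S.orbit_Ker hS hb).symm.subset hz⟩ : Ω)) hk
    exact h
  let I : Subgroup (Equiv.Perm X) := φ.range
  haveI : IsPretransitive I X :=
    ⟨fun x y => by
      obtain ⟨w, hw⟩ := exists_smul_eq (S.Ker a) x y
      exact ⟨⟨φ w, w, rfl⟩, hw⟩⟩
  let e : S.Ker a ≃* I := MonoidHom.ofInjective hφ
  by_cases hs : Group.IsSolvable I
  · exfalso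
    haveI : Nontrivial I := by
      obtain ⟨P, hP, -⟩ := exists_syl hp (bot_le : (⊥ : Subgroup G) ≤ stabilizer G a)
        IsPGroup.of_bot
      obtain ⟨τ, -, hτ, ho, -, -⟩ := S.exists_tau hS hb hP
      refine ⟨⟨e ⟨τ, hτ⟩, 1, fun h => ?_⟩⟩
      rw [← map_one e] at h
      have := congrArg Subtype.val (e.injective h)
      simp only [OneMemClass.coe_one] at this
      rw [this, orderOf_one] at ho
      exact hp.ne_one ho.symm
    obtain ⟨A, hA, hAne, hAc⟩ := SelfNormNonabelian.exists_abelian_normal I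
    haveI : IsPreprimitive I X := IsPreprimitive.of_prime_card (hX ▸ hp)
    haveI hAt : IsPretransitive A X := Perm.isPretransitive_of_normal (G := I) hAne
    have hAp : Nat.card A = p := by
      rw [Perm.card_eq_of_regular (Perm.semiregular_of_abelian (N := A) hAt
        ⟨b, mem_orbit_self b⟩), hX]
    obtain ⟨x, hx⟩ := exists_prime_orderOf_dvd_card' p (hAp ▸ dvd_rfl : p ∣ Nat.card A)
    set τ : S.Ker a := e.symm (x : I) with hτdef
    have ho : orderOf (τ : G) = p := by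
      rw [Subgroup.orderOf_coe, hτdef, MulEquiv.orderOf_eq, Subgroup.orderOf_coe, hx]
    have hgen : Subgroup.zpowers x = ⊤ := by
      refine Subgroup.eq_top_of_card_eq _ ?_
      rw [Nat.card_zpowers, hx, hAp]
    have hn : ∀ g ∈ S.Ker a, g * (τ : G) * g⁻¹ ∈ Subgroup.zpowers (τ : G) := by
      intro g hg
      have h := hA.conj_mem _ x.2 (e ⟨g, hg⟩)
      obtain ⟨i, hi⟩ := Subgroup.mem_zpowers_iff.1 (hgen.ge (Subgroup.mem_top (⟨_, h⟩ : A)))
      refine Subgroup.mem_zpowers_iff.2 ⟨i, ?_⟩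
      have h2 : e (τ ^ i) = e (⟨g, hg⟩ * τ * ⟨g, hg⟩⁻¹) := by
        simp only [map_zpow, map_mul, map_inv, hτdef, MulEquiv.apply_symm_apply]
        exact congrArg Subtype.val hi
      exact congrArg Subtype.val (e.injective h2)
    refine hnc ⟨τ, τ.2, ho, fun g hg => ?_⟩
    refine S.mem_zpowers_of_normal hS hb τ.2 ho hn ?_ ?_
    · have h := S.Ker_conj (g := g⁻¹) (inv_smul_eq_iff.2 hg.symm) τ.2
      rwa [inv_inv] at h
    · exact ((MulAut.conj g).orderOf_eq (τ : G)).trans ho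
  · haveI : Fintype X := Fintype.ofFinite X
    have h2 := Perm.PrimeDegree.twoTransitive_of_not_isSolvable (p := p) (α := X)
      (by rw [← Nat.card_eq_fintype_card, hX]) hs
    have hcX : c ∈ X := (S.orbit_Ker hS hb).symm.subset hc
    have hdX : d ∈ X := (S.orbit_Ker hS hb).symm.subset hd
    have h1 : (⟨b, mem_orbit_self b⟩ : X) ≠ ⟨c, hcX⟩ := fun h => hcb (congrArg Subtype.val h).symm
    have h1' : (⟨b, mem_orbit_self b⟩ : X) ≠ ⟨d, hdX⟩ := fun h => hdb (congrArg Subtype.val h).symm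
    obtain ⟨⟨_, k, rfl⟩, hkb, hkc⟩ := (is_two_pretransitive_iff.1 h2) h1 h1'
    exact ⟨k, ⟨k.2, mem_stabilizer_iff.2 (congrArg Subtype.val hkb)⟩, congrArg Subtype.val hkc⟩

section Adjacent

open Finset in
/-- For an element of a Sylow subgroup moving the classes, and a kernel doubly transitive on
classes, the stabiliser of `b` fixes a point of the next class. -/
theorem exists_fixed_next_A {a b : Ω} (hb : b ≠ a) (hnc : ¬ S.NormalCyc a) {τ y : G}
    (hτ : τ ∈ S.Ker a) (ho : orderOf τ = p) (hya : y • a = a) (hcomm : Commute τ y)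
    (hyp : ∃ e : ℕ, y ^ p = τ ^ e) :
    ∃ z ∈ S.blk a (y • b), z ∈ fix (S.Kst a b) := by
  classical
  have hp := hS.prime
  haveI : Fact p.Prime := ⟨hp⟩
  haveI : NeZero p := ⟨hp.ne_zero⟩
  obtain ⟨horb, hsr⟩ := S.orbit_zpowers hS hb hτ ho
  let T : ZMod p → G := fun t => τ ^ t.val
  have hTmem : ∀ t, T t ∈ S.Ker a := fun t => (S.Ker a).pow_mem hτ _
  have hnat : ∀ k : ℕ, T (k : ZMod p) = τ ^ k := fun k => by
    show τ ^ (k : ZMod p).val = τ ^ k
    rw [ZMod.val_natCast, ← ho, pow_mod_orderOf]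
  have hTadd : ∀ s t, T (s + t) = T s * T t := fun s t => by
    conv_lhs => rw [← ZMod.natCast_zmod_val s, ← ZMod.natCast_zmod_val t, ← Nat.cast_add, hnat]
    rw [pow_add]
  have hT0 : T 0 = 1 := by simp [T]
  have hTy : ∀ t, y * T t = T t * y := fun t => ((hcomm.pow_left _).eq).symm
  -- coordinates on the class of `b`
  have hTinj : ∀ s t, T s • b = T t • b → s = t := by
    intro s t h
    have hm : (τ ^ t.val)⁻¹ * τ ^ s.val ∈ Subgroup.zpowers τ ⊓ stabilizer G b :=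
      ⟨(Subgroup.zpowers τ).mul_mem ((Subgroup.zpowers τ).inv_mem (Subgroup.npow_mem_zpowers _ _))
        (Subgroup.npow_mem_zpowers _ _),
        mem_stabilizer_iff.2 (by rw [mul_smul, inv_smul_eq_iff]; exact h)⟩
    rw [hsr, Subgroup.mem_bot, inv_mul_eq_one, pow_inj_mod, ho,
      Nat.mod_eq_of_lt t.val_lt, Nat.mod_eq_of_lt s.val_lt] at hm
    exact ZMod.val_injective p hm.symm
  have hsurj : ∀ z ∈ S.blk a b, ∃ t, T t • b = z := by
    intro z hz
    obtain ⟨⟨g, hg⟩, hgz⟩ := horb.symm.subset hz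
    have hg' : g ∈ Submonoid.powers τ := mem_powers_iff_mem_zpowers.2 hg
    obtain ⟨n, rfl⟩ := hg'
    exact ⟨(n : ZMod p), by rw [hnat]; exact hgz⟩
  have hcoord : ∀ k ∈ S.Ker a, ∀ t, ∃ t', T t' • b = k • T t • b := fun k hk t =>
    hsurj _ (S.trans ((hTmem t).2 b hb) (hk.2 _ (S.ne_right ((hTmem t).2 b hb))))
  choose! π hπ using hcoord
  -- the adjacency set
  let D : Finset (ZMod p) := univ.filter fun j => ∃ g ∈ S.Kst a b, g • y • b = T j • y • b
  have hD : ∀ j, j ∈ D ↔ ∃ g ∈ S.Kst a b, g • y • b = T j • y • b := fun j => by simp [D]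
  have hy1 : ∀ k ∈ S.Ker a, y⁻¹ * k * y ∈ S.Ker a := fun k hk => S.Ker_conj hya hk
  -- the kernel respects adjacency
  have hadj1 : ∀ k ∈ S.Ker a, ∀ s t, t - s ∈ D → π (y⁻¹ * k * y) t - π k s ∈ D := by
    intro k hk s t h
    obtain ⟨g, hg, hgy⟩ := (hD _).1 h
    refine (hD _).2 ⟨(T (π k s))⁻¹ * (k * T s * g), ⟨?_, mem_stabilizer_iff.2 ?_⟩, ?_⟩
    · exact (S.Ker a).mul_mem ((S.Ker a).inv_mem (hTmem _))
        ((S.Ker a).mul_mem ((S.Ker a).mul_mem hk (hTmem s)) hg.1)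
    · rw [mul_smul, mul_smul, mul_smul, mem_stabilizer_iff.1 hg.2, inv_smul_eq_iff, hπ k hk s]
    · have e1 : k • T t • y • b = T (π (y⁻¹ * k * y) t) • y • b := by
        have h1 := congrArg (fun z => y • z) (hπ _ (hy1 k hk) t)
        simp only [← mul_smul] at h1 ⊢
        rw [hTy] at h1
        rw [h1]
        congr 1
        rw [show y * (y⁻¹ * k * y * T t) = k * (y * T t) by group, hTy]
      have e2 : T s • g • y • b = T t • y • b := by
        rw [hgy, ← mul_smul, ← hTadd, add_sub_cancel]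
      rw [mul_smul, mul_smul, mul_smul, e2, e1, inv_smul_eq_iff,
        ← mul_smul (T (π k s)) (T _) (y • b), ← hTadd, add_sub_cancel]
  have hinj : ∀ k ∈ S.Ker a, Function.Bijective (π k) := fun k hk => by
    refine Finite.injective_iff_bijective.1 fun s t h => hTinj s t ?_
    have h' := congrArg (fun u => T u • b) h
    simp only [hπ k hk] at h'
    exact smul_left_cancel k h'
  have hinv : ∀ k ∈ S.Ker a, ∀ t, π k⁻¹ (π k t) = t := by
    intro k hk t
    apply hTinj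
    rw [hπ _ (inv_mem hk), hπ k hk, inv_smul_smul]
  have hadj : ∀ k ∈ S.Ker a, ∀ s t, π (y⁻¹ * k * y) t - π k s ∈ D ↔ t - s ∈ D := by
    intro k hk s t
    refine ⟨fun h => ?_, hadj1 k hk s t⟩
    have h' := hadj1 k⁻¹ (inv_mem hk) _ _ h
    rwa [hinv k hk, show y⁻¹ * k⁻¹ * y = (y⁻¹ * k * y)⁻¹ by group, hinv _ (hy1 k hk)] at h'
  have hstab : ∀ g ∈ S.Kst a b, π g 0 = 0 := fun g hg => hTinj _ _ (by
    rw [hπ g hg.1, hT0, one_smul, mem_stabilizer_iff.1 hg.2])
  have hne : D.Nonempty := ⟨0, (hD 0).2 ⟨1, one_mem _, by rw [hT0]⟩⟩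
  have hnu : D ≠ univ := by
    intro h
    have hyb : y • b ≠ a := fun e => hb (MulAction.injective y (e.trans hya.symm))
    have hsub : orbit (S.Kst a b) (y • b) = S.blk a (y • b) := by
      refine Set.Subset.antisymm ?_ ?_
      · rintro _ ⟨⟨g, hg⟩, rfl⟩; exact hg.1.2 _ hyb
      · intro z hz
        obtain ⟨⟨g, hg⟩, hgz⟩ := ((S.orbit_zpowers hS hyb hτ ho).1).symm.subset hz
        obtain ⟨n, rfl⟩ : g ∈ Submonoid.powers τ := mem_powers_iff_mem_zpowers.2 hg
        obtain ⟨k, hk, hky⟩ := (hD _).1 (h.symm ▸ mem_univ (n : ZMod p))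
        refine ⟨⟨k, hk⟩, ?_⟩
        show k • y • b = z
        rw [hky, hnat]
        exact hgz
    apply S.not_dvd_Kst hS hb
    have h1 : (stabilizer G (y • b)).relIndex (S.Kst a b) = p := by
      rw [relIndex_stabilizer, hsub, S.ncard_blk hyb]
    have h2 : (stabilizer G (y • b)).relIndex (S.Kst a b) ∣ Nat.card (S.Kst a b) :=
      Subgroup.index_dvd_card _
    rwa [h1] at h2
  have htrans : ∀ s t : ZMod p, s ≠ 0 → t ≠ 0 → ∃ g ∈ S.Kst a b, π g t = s := by
    intro s t hs ht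
    have hmem : ∀ u, T u • b ∈ S.blk a b := fun u => (hTmem u).2 b hb
    have hneb : ∀ u, u ≠ 0 → T u • b ≠ b := fun u hu e =>
      hu (hTinj u 0 (by rw [e, hT0, one_smul]))
    obtain ⟨g, hg, hgs⟩ := S.transitive_of_not_normalCyc hS hb hnc (hmem t) (hmem s) (hneb t ht)
      (hneb s hs)
    exact ⟨g, hg, hTinj _ _ (by rw [hπ g hg.1, hgs])⟩
  -- the self correlation
  have hcor : ∀ s t : ZMod p, s ≠ 0 → t ≠ 0 → cor D s = cor D t := by
    intro s t hs ht
    obtain ⟨g, hg, hgt⟩ := htrans s t hs ht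
    simp only [cor]
    refine (Finset.card_equiv (Equiv.ofBijective _ (hinj _ (hy1 g hg.1))) fun u => ?_).symm
    simp only [mem_filter, Equiv.ofBijective_apply]
    have h1 := hadj g hg.1 0 u
    rw [hstab g hg, sub_zero, sub_zero] at h1
    have h2 := hadj g hg.1 t u
    rw [hgt] at h2
    rw [h1, h2]
  -- the convolution powers
  have hconv : ∀ g ∈ S.Kst a b, ∀ i t, conv D i (π ((y ^ i)⁻¹ * g * y ^ i) t) = conv D i t := by
    intro g hg i
    have hk : ∀ i : ℕ, (y ^ i)⁻¹ * g * y ^ i ∈ S.Ker a := fun i =>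
      S.Ker_conj (mem_stabilizer_iff.1 (pow_mem (mem_stabilizer_iff.2 hya) i)) hg.1
    induction i with
    | zero =>
      intro t
      simp only [pow_zero, inv_one, one_mul, mul_one, conv]
      refine if_congr ⟨fun h => ?_, fun h => by rw [h, hstab g hg]⟩ rfl rfl
      exact (hinj g hg.1).1 (h.trans (hstab g hg).symm)
    | succ i ih =>
      intro t
      have hs : ∀ u, conv D (i + 1) u = ∑ s, if u - s ∈ D then conv D i s else 0 := by
        intro u
        rw [← Equiv.sum_comp (Equiv.subLeft u) (fun s => if u - s ∈ D then conv D i s else 0)]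
        simp only [Equiv.subLeft_apply, sub_sub_cancel, sum_ite_mem, univ_inter, conv]
      rw [hs, hs, ← Equiv.sum_comp (Equiv.ofBijective _ (hinj _ (hk i)))]
      refine sum_congr rfl fun s _ => ?_
      simp only [Equiv.ofBijective_apply]
      have h1 := hadj _ (hk i) s t
      rw [show y⁻¹ * ((y ^ i)⁻¹ * g * y ^ i) * y = (y ^ (i + 1))⁻¹ * g * y ^ (i + 1) by
        simp [pow_succ, mul_assoc]] at h1
      exact if_congr h1 (ih s) rfl
  obtain ⟨e, he⟩ := hyp
  have hpow : ∀ s t : ZMod p, s ≠ -(e : ZMod p) → t ≠ -(e : ZMod p) →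
      conv D p s = conv D p t := by
    intro s t hs ht
    obtain ⟨g, hg, hgt⟩ := htrans (s + e) (t + e) (fun h => hs (eq_neg_of_add_eq_zero_left h))
      (fun h => ht (eq_neg_of_add_eq_zero_left h))
    have hk : (y ^ p)⁻¹ * g * y ^ p ∈ S.Ker a :=
      S.Ker_conj (mem_stabilizer_iff.1 (pow_mem (mem_stabilizer_iff.2 hya) p)) hg.1
    have h1 : π ((y ^ p)⁻¹ * g * y ^ p) t = s := by
      apply hTinj
      rw [hπ _ hk, he, ← hnat, mul_smul, mul_smul, ← mul_smul (T _) (T t), ← hTadd,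
        add_comm _ t, ← hπ g hg.1, hgt, inv_smul_eq_iff, ← mul_smul, ← hTadd, add_comm]
    rw [← h1, hconv g hg]
  obtain ⟨i, hi⟩ := exists_point hS.odd D hne hnu hcor _ hpow
  refine ⟨T i • y • b, ?_, fun g hg => ?_⟩
  · exact (hTmem i).2 _ (fun e => hb (MulAction.injective y (e.trans hya.symm)))
  · have hk := hy1 g hg.1
    have h1 := hadj g hg.1 0 i
    rw [hstab g hg, sub_zero, sub_zero] at h1
    have h2 : π (y⁻¹ * g * y) i = i := by
      by_contra hne'
      have h3 := (hi _ hne').symm.trans h1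
      tauto
    have h3 := congrArg (fun z => y • z) (hπ _ hk i)
    rw [h2] at h3
    simp only [← mul_smul, hTy] at h3
    rw [show y * (y⁻¹ * g * y * T i) = g * (y * T i) by group, hTy, ← mul_assoc, mul_assoc] at h3
    simp only [mul_smul] at h3
    exact h3.symm

/-- With a normal subgroup of order `p` in the kernel the stabiliser of `b` fixes a point of every
class. -/
theorem exists_fixed_next_B {a b w : Ω} (hb : b ≠ a) (hw : w ≠ a) (hnc : S.NormalCyc a) :
    ∃ z ∈ S.blk a w, z ∈ fix (S.Kst a b) := by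
  have hp := hS.prime
  haveI : Fact p.Prime := ⟨hp⟩
  obtain ⟨τ, hτ, ho, hn⟩ := hnc
  by_cases hbot : S.Kst a b = ⊥
  · exact ⟨w, S.refl hw, fun g hg => by rw [hbot, Subgroup.mem_bot] at hg; rw [hg, one_smul]⟩
  obtain ⟨g, hg, hg1⟩ := (S.Kst a b).bot_or_exists_ne_one.resolve_left hbot
  have hexp : ∀ k ∈ S.Kst a b, ∃ s : ℕ, k * τ * k⁻¹ = τ ^ s := fun k hk => by
    obtain ⟨n, hn'⟩ : k * τ * k⁻¹ ∈ Submonoid.powers τ :=
      mem_powers_iff_mem_zpowers.2 (hn k hk.1.1)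
    exact ⟨n, hn'.symm⟩
  have hmove : ∀ k ∈ S.Kst a b, ∀ (s : ℕ), k * τ * k⁻¹ = τ ^ s → ∀ (n : ℕ) (x : Ω),
      k • τ ^ n • x = τ ^ (s * n) • k • x := by
    intro k _ s hs n x
    have h : k * τ ^ n * k⁻¹ = τ ^ (s * n) := by rw [← conj_pow, hs, pow_mul]
    rw [← mul_smul, ← mul_smul, ← h, inv_mul_cancel_right]
  have hblkT : ∀ {x : Ω}, x ≠ a → ∀ z ∈ S.blk a x, ∃ n : ℕ, τ ^ n • x = z := fun hx z hz => by
    obtain ⟨⟨h, hh⟩, hhz⟩ := (S.orbit_zpowers hS hx hτ ho).1.symm.subset hz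
    obtain ⟨n, rfl⟩ : h ∈ Submonoid.powers τ := mem_powers_iff_mem_zpowers.2 hh
    exact ⟨n, hhz⟩
  have hTinj : ∀ {x : Ω}, x ≠ a → ∀ m n : ℕ, τ ^ m • x = τ ^ n • x → (m : ZMod p) = n := by
    intro x hx m n h
    have hm : (τ ^ n)⁻¹ * τ ^ m ∈ Subgroup.zpowers τ ⊓ stabilizer G x :=
      ⟨(Subgroup.zpowers τ).mul_mem ((Subgroup.zpowers τ).inv_mem (Subgroup.npow_mem_zpowers _ _))
        (Subgroup.npow_mem_zpowers _ _),
        mem_stabilizer_iff.2 (by rw [mul_smul, inv_smul_eq_iff]; exact h)⟩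
    rw [(S.orbit_zpowers hS hx hτ ho).2, Subgroup.mem_bot, inv_mul_eq_one, pow_inj_mod, ho] at hm
    exact (ZMod.natCast_eq_natCast_iff' _ _ _).2 hm.symm
  have htriv : ∀ k ∈ S.Kst a b, k * τ * k⁻¹ = τ → k = 1 := by
    intro k hk hc
    refine S.eq_one_of_fix_blk hS hb hk.1 fun z hz => ?_
    obtain ⟨n, rfl⟩ := hblkT hb z hz
    rw [hmove k hk 1 (by rw [pow_one, hc]) n b, one_mul, mem_stabilizer_iff.1 hk.2]
  have hcom : ∀ k ∈ S.Kst a b, ∀ l ∈ S.Kst a b, k * l = l * k := by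
    intro k hk l hl
    obtain ⟨s, hs⟩ := hexp k hk
    obtain ⟨t, ht⟩ := hexp l hl
    have h1 : (k * l) * τ * (k * l)⁻¹ = τ ^ (s * t) := by
      rw [show (k * l) * τ * (k * l)⁻¹ = k * (l * τ * l⁻¹) * k⁻¹ by group, ht, ← conj_pow, hs,
        pow_mul]
    have h2 : (l * k) * τ * (l * k)⁻¹ = τ ^ (s * t) := by
      rw [show (l * k) * τ * (l * k)⁻¹ = l * (k * τ * k⁻¹) * l⁻¹ by group, hs, ← conj_pow, ht,
        ← pow_mul, mul_comm]
    have h3 := htriv ((l * k)⁻¹ * (k * l)) (mul_mem (inv_mem (mul_mem hl hk)) (mul_mem hk hl)) (by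
      rw [show (l * k)⁻¹ * (k * l) * τ * ((l * k)⁻¹ * (k * l))⁻¹ =
        (l * k)⁻¹ * ((k * l) * τ * (k * l)⁻¹) * (l * k) by group, h1, ← h2]
      group)
    exact (inv_mul_eq_one.1 h3).symm
  obtain ⟨s, hs⟩ := hexp g hg
  have hs1 : (s : ZMod p) ≠ 1 := by
    intro h
    apply hg1
    refine htriv g hg ?_
    rw [hs]
    conv_rhs => rw [← pow_one τ]
    rw [pow_inj_mod, ho, ← ZMod.natCast_eq_natCast_iff', h, Nat.cast_one]
  obtain ⟨u, hu⟩ := hblkT hw _ (hg.1.2 w hw)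
  set j : ZMod p := (u : ZMod p) * (1 - (s : ZMod p))⁻¹ with hj
  have hfixg : g • τ ^ j.val • w = τ ^ j.val • w := by
    rw [hmove g hg s hs, ← hu, ← mul_smul, ← pow_add]
    congr 1
    rw [pow_inj_mod, ho, ← ZMod.natCast_eq_natCast_iff']
    push_cast
    rw [ZMod.natCast_zmod_val, hj]
    have hne : (1 : ZMod p) - s ≠ 0 := sub_ne_zero.2 (Ne.symm hs1)
    field_simp
    ring
  refine ⟨τ ^ j.val • w, ((S.Ker a).pow_mem hτ _).2 w hw, fun k hk => ?_⟩
  set z := τ ^ j.val • w with hz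
  have hzw : S.R a w z := ((S.Ker a).pow_mem hτ _).2 w hw
  have hkz : g • k • z = k • z := by rw [← mul_smul, hcom g hg k hk, mul_smul, hfixg]
  obtain ⟨n, hn'⟩ := hblkT (S.ne_right hzw) _ (hk.1.2 z (S.ne_right hzw))
  rw [← hn', hmove g hg s hs, hfixg] at hkz
  have h := hTinj (S.ne_right hzw) _ _ hkz
  push_cast at h
  have hn0 : (n : ZMod p) = 0 := by
    have h' : ((s : ZMod p) - 1) * n = 0 := by rw [sub_mul, h, one_mul, sub_self]
    exact (mul_eq_zero.1 h').resolve_left (sub_ne_zero.2 hs1)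
  rw [← hn']
  obtain ⟨m, rfl⟩ := (ZMod.natCast_eq_zero_iff _ _).1 hn0
  rw [pow_mul, ← ho, pow_orderOf_eq_one, one_pow, one_smul]

/-- An element of a Sylow subgroup of the stabiliser that moves `b` to another class and normalises
the stabiliser of `b` in the kernel. -/
theorem exists_normalising {a b : Ω} (hb : b ≠ a) :
    ∃ P : Subgroup G, ∃ τ y : G, IsSyl p a P ∧ τ ∈ P ∧ τ ∈ S.Ker a ∧ orderOf τ = p ∧
      P ⊓ S.Ker a = Subgroup.zpowers τ ∧ y ∈ P ∧ ¬ S.R a b (y • b) ∧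
      y • b ∈ fix (S.Kst a b) ∧ ∀ g ∈ P, ∀ g' ∈ P, g * g' = g' * g := by
  have hp := hS.prime
  haveI : Fact p.Prime := ⟨hp⟩
  obtain ⟨P, hP, -⟩ := exists_syl hp (bot_le : (⊥ : Subgroup G) ≤ stabilizer G a) IsPGroup.of_bot
  obtain ⟨τ, hτP, hτ, ho, hPK, hidx⟩ := S.exists_tau hS hb hP
  have hcomm : ∀ g ∈ P, ∀ g' ∈ P, g * g' = g' * g := fun g hg g' hg' =>
    congrArg Subtype.val
      ((IsPGroup.isMulCommutative_of_card_eq_prime_sq (S.card_syl hS hb hP).1).is_comm.comm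
        (⟨g, hg⟩ : P) ⟨g', hg'⟩)
  obtain ⟨y, hy, hyK⟩ : ∃ y ∈ P, y ∉ Subgroup.zpowers τ :=
    SetLike.exists_of_lt (lt_of_le_of_ne (Subgroup.zpowers_le.2 hτP) fun e => hp.ne_one (by
      rw [← hidx, e, Subgroup.relIndex_self]))
  obtain ⟨hPS, hle, -⟩ := S.syl_SB hS hb hP
  have hya : y • a = a := hP.le hy
  have hnR : ∀ g ∈ P, g ∉ Subgroup.zpowers τ → ¬ S.R a b (g • b) := fun g hg hgK h =>
    hgK (by
      have h1 : g ∈ P ⊓ S.Ker a :=
        ⟨hg, hle (show g ∈ P ⊓ S.SB a b from ⟨hg, hP.le hg, fun _ => h⟩)⟩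
      rwa [hPK] at h1)
  have hyb : y • b ≠ a := fun e => hb (MulAction.injective y (e.trans hya.symm))
  have hyp : ∃ e : ℕ, y ^ p = τ ^ e := by
    have h : y ^ p ∈ Subgroup.zpowers τ := by
      haveI : IsMulCommutative P := ⟨⟨fun u v => Subtype.ext (hcomm u u.2 v v.2)⟩⟩
      have := Subgroup.pow_index_mem ((Subgroup.zpowers τ).subgroupOf P) (⟨y, hy⟩ : P)
      rw [← Subgroup.relIndex, hidx] at this
      exact Subgroup.mem_subgroupOf.1 this
    obtain ⟨e, he⟩ : y ^ p ∈ Submonoid.powers τ := mem_powers_iff_mem_zpowers.2 h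
    exact ⟨e, he.symm⟩
  obtain ⟨z, hz, hzfix⟩ : ∃ z ∈ S.blk a (y • b), z ∈ fix (S.Kst a b) := by
    by_cases hnc : S.NormalCyc a
    · exact S.exists_fixed_next_B hS hb hyb hnc
    · exact S.exists_fixed_next_A hS hb hnc hτ ho hya (hcomm τ hτP y hy) hyp
  obtain ⟨⟨h, hh⟩, hhz⟩ := (S.orbit_zpowers hS hyb hτ ho).1.symm.subset hz
  have hhz' : h • y • b = z := hhz
  have hhP : h ∈ P := (Subgroup.zpowers_le.2 hτP) hh
  refine ⟨P, τ, h * y, hP, hτP, hτ, ho, hPK, P.mul_mem hhP hy, hnR _ (P.mul_mem hhP hy)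
    (fun e => hyK ?_), ?_, hcomm⟩
  · simpa using mul_mem (inv_mem hh) e
  · rw [mul_smul, hhz']; exact hzfix

/-- In every class there is a point with the same stabiliser in the kernel as `b`. -/
theorem exists_eq_Kst {a b w : Ω} (hb : b ≠ a) (hw : w ≠ a) :
    ∃ c, S.R a w c ∧ S.Kst a c = S.Kst a b := by
  have hp := hS.prime
  haveI : Fact p.Prime := ⟨hp⟩
  obtain ⟨P, τ, y, hP, hτP, hτ, ho, hPK, hy, hnR, hfix, hcomm⟩ := S.exists_normalising hS hb
  have heq : ∀ c, c ≠ a → c ∈ fix (S.Kst a b) → S.Kst a c = S.Kst a b := by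
    intro c hc hcf
    have hle : S.Kst a b ≤ S.Kst a c := fun g hg => ⟨hg.1, mem_stabilizer_iff.2 (hcf g hg)⟩
    refine (Subgroup.eq_of_le_of_card_ge hle ?_).symm
    exact le_of_eq (Nat.eq_of_mul_eq_mul_left hp.pos
      ((S.card_Kst hS hc).trans (S.card_Kst hS hb).symm))
  have hpow : ∀ n : ℕ, y ^ n • b ≠ a ∧ S.Kst a (y ^ n • b) = S.Kst a b := by
    intro n
    induction n with
    | zero => simp [hb]
    | succ n ih =>
      have hya : y • a = a := hP.le hy
      have hne : y ^ (n + 1) • b ≠ a := by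
        rw [pow_succ', mul_smul]
        exact fun e => ih.1 (MulAction.injective y (e.trans hya.symm))
      refine ⟨hne, heq _ hne fun g hg => ?_⟩
      have h1 : g • y • b = y • b := hfix g hg
      have hg' : y⁻¹ * g * y ∈ S.Kst a b :=
        ⟨S.Ker_conj hya hg.1, mem_stabilizer_iff.2 (by rw [mul_smul, mul_smul, h1, inv_smul_smul])⟩
      rw [← ih.2] at hg'
      have h2 := mem_stabilizer_iff.1 hg'.2
      rw [mul_smul, mul_smul, inv_smul_eq_iff] at h2
      rw [pow_succ', mul_smul]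
      exact h2
  obtain ⟨horb, -⟩ := S.orbit_syl hS hb hP
  obtain ⟨⟨h, hh⟩, hhw⟩ := horb.symm.subset (hw : w ∈ ({a}ᶜ : Set Ω))
  have hgen : P ≤ Subgroup.zpowers τ ⊔ Subgroup.zpowers y := by
    obtain ⟨hPS, hle, -⟩ := S.syl_SB hS hb hP
    have h1 : Subgroup.zpowers τ < Subgroup.zpowers τ ⊔ Subgroup.zpowers y := by
      refine lt_of_le_of_ne le_sup_left fun e => hnR ?_
      have : y ∈ Subgroup.zpowers τ := e ▸ Subgroup.mem_sup_right (Subgroup.mem_zpowers y)
      exact (Subgroup.zpowers_le.2 hτ this).2 b hb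
    have h2 : Subgroup.zpowers τ ⊔ Subgroup.zpowers y ≤ P :=
      sup_le (Subgroup.zpowers_le.2 hτP) (Subgroup.zpowers_le.2 hy)
    have hidx : (Subgroup.zpowers τ).relIndex P = p := by
      have := Subgroup.index_mul_card ((Subgroup.zpowers τ).subgroupOf P)
      rw [← Subgroup.relIndex, Nat.card_congr
        (Subgroup.subgroupOfEquivOfLe (Subgroup.zpowers_le.2 hτP)).toEquiv, Nat.card_zpowers, ho,
        (S.card_syl hS hb hP).1, sq] at this
      exact Nat.eq_of_mul_eq_mul_right hp.pos this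
    have h3 := Subgroup.relIndex_mul_relIndex _ _ _ h1.le h2
    rw [hidx] at h3
    rcases (Nat.prime_mul_iff.1 (h3 ▸ hp)) with ⟨-, h4⟩ | ⟨-, h4⟩
    · exact Subgroup.relIndex_eq_one.1 h4
    · exact absurd (Subgroup.relIndex_eq_one.1 h4) (not_le_of_gt h1)
  haveI : IsMulCommutative P := ⟨⟨fun u v => Subtype.ext (hcomm u u.2 v v.2)⟩⟩
  -- decompose `h`
  let τ' : P := ⟨τ, hτP⟩
  let y' : P := ⟨y, hy⟩
  have hmem : (⟨h, hh⟩ : P) ∈ Subgroup.zpowers τ' ⊔ Subgroup.zpowers y' := by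
    have hm : (Subgroup.zpowers τ' ⊔ Subgroup.zpowers y').map P.subtype =
        Subgroup.zpowers τ ⊔ Subgroup.zpowers y := by
      rw [Subgroup.map_sup, MonoidHom.map_zpowers, MonoidHom.map_zpowers]
      rfl
    obtain ⟨u, hu, e⟩ := hm.symm.le (hgen hh)
    exact (Subtype.ext e : u = ⟨h, hh⟩) ▸ hu
  obtain ⟨u, hu, v, hv, huv⟩ := Subgroup.mem_sup_of_normal_left.1 hmem
  obtain ⟨n, rfl⟩ : v ∈ Submonoid.powers y' := mem_powers_iff_mem_zpowers.2 hv
  have hhw' : h • b = w := hhw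
  refine ⟨y ^ n • b, ?_, (hpow n).2⟩
  have huK : (u : G) ∈ S.Ker a := by
    obtain ⟨i, rfl⟩ := Subgroup.mem_zpowers_iff.1 hu
    exact Subgroup.zpow_mem _ hτ i
  have e : (u : G) * y ^ n = h := congrArg Subtype.val huv
  rw [← hhw', ← e, mul_smul]
  exact S.symm (huK.2 _ (hpow n).1)

end Adjacent

end Sys

end Cfsg.Agent.DoublyPrimitive
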