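import Cfsg.Agent.Lib.DoublyPrimitive.Contra
import Mathlib.RingTheory.ZMod.UnitsCyclic
import Mathlib.Combinatorics.Enumerative.DoubleCounting

/-!
# Doubly transitive groups of degree `p² + 1` are doubly primitive (`p` odd)
-/

set_option autoImplicit false
set_option linter.unusedSectionVars false

namespace Cfsg.Agent.DoublyPrimitive

open MulAction

variable {G Ω : Type*} [Group G] [Finite G] [Finite Ω] [MulAction G Ω] {p : ℕ}

section Classes

variable (hS : Setting G Ω p) (a : Ω) (Ra : Ω → Ω → Prop)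

/-- The system generated by an invariant partition at one point. -/
def ofClasses (h2 : IsMultiplyPretransitive G Ω 2) (hne : ∀ y z, Ra y z → y ≠ a ∧ z ≠ a)
    (hrefl : ∀ y, y ≠ a → Ra y y) (hsymm : ∀ y z, Ra y z → Ra z y)
    (htrans : ∀ y z w, Ra y z → Ra z w → Ra y w)
    (hinv : ∀ g : G, g • a = a → ∀ y z, Ra y z → Ra (g • y) (g • z))
    (hcard : ∀ y, y ≠ a → Set.ncard {z | Ra y z} = p) : Sys G Ω p where
  R x y z := ∃ g : G, g • a = x ∧ Ra (g⁻¹ • y) (g⁻¹ • z)
  ne_left := by
    rintro x y z ⟨g, rfl, h⟩ rfl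
    exact (hne _ _ h).1 (inv_smul_smul g a)
  ne_right := by
    rintro x y z ⟨g, rfl, h⟩ rfl
    exact (hne _ _ h).2 (inv_smul_smul g a)
  refl := by
    intro x y hy
    haveI : IsPretransitive G Ω := isPretransitive_of_is_two_pretransitive
    obtain ⟨g, rfl⟩ := exists_smul_eq G a x
    exact ⟨g, rfl, hrefl _ fun e => hy (by rw [← e, smul_inv_smul])⟩
  symm := fun ⟨g, hg, h⟩ => ⟨g, hg, hsymm _ _ h⟩
  trans := by
    rintro x y z w ⟨g, rfl, h⟩ ⟨g', hg', h'⟩
    refine ⟨g, rfl, htrans _ _ _ h ?_⟩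
    have h1 := hinv (g⁻¹ * g') (by rw [mul_smul, hg', inv_smul_smul]) _ _ h'
    simpa [mul_smul] using h1
  smul := by
    rintro k x y z ⟨g, rfl, h⟩
    exact ⟨k * g, mul_smul k g a, by simpa [mul_smul] using h⟩
  card := by
    intro x y hy
    haveI : IsPretransitive G Ω := isPretransitive_of_is_two_pretransitive
    obtain ⟨g, rfl⟩ := exists_smul_eq G a x
    have hne' : g⁻¹ • y ≠ a := fun e => hy (by rw [← e, smul_inv_smul])
    have : {z | ∃ g' : G, g' • a = g • a ∧ Ra (g'⁻¹ • y) (g'⁻¹ • z)} =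
        (fun z => g • z) '' {z | Ra (g⁻¹ • y) z} := by
      ext z
      constructor
      · rintro ⟨g', hg', h⟩
        refine ⟨g⁻¹ • z, ?_, smul_inv_smul g z⟩
        have h1 := hinv (g⁻¹ * g') (by rw [mul_smul, hg', inv_smul_smul]) _ _ h
        simpa [mul_smul] using h1
      · rintro ⟨w, hw, rfl⟩
        exact ⟨g, rfl, by rw [inv_smul_smul]; exact hw⟩
    rw [this, Set.ncard_image_of_injective _ (MulAction.injective g)]
    exact hcard _ hne'

end Classes

namespace Sys

variable (S : Sys G Ω p) (hS : Setting G Ω p)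
include S hS

/-- A semiregular centraliser containing a Sylow subgroup is that Sylow subgroup. -/
theorem eq_syl_of_semiregular {a b : Ω} (hb : b ≠ a) {P C : Subgroup G} (hP : IsSyl p a P)
    (hC : C ≤ stabilizer G a) (hreg : C ⊓ stabilizer G b = ⊥) (hPC : P ≤ C) : P = C := by
  refine Subgroup.eq_of_le_of_card_ge hPC ?_
  have h := relIndex_stabilizer C b
  rw [← Subgroup.inf_relIndex_left, hreg, Subgroup.relIndex_bot_left] at h
  rw [h, (S.card_syl hS hb hP).1]
  have hsub : orbit C b ⊆ ({a}ᶜ : Set Ω) := by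
    rintro _ ⟨⟨g, hg⟩, rfl⟩ (e : g • b = a)
    exact hb (MulAction.injective g (e.trans (hC hg).symm))
  refine (Set.ncard_le_ncard hsub).trans_eq ?_
  rw [Set.ncard_compl, Set.ncard_singleton, hS.degree, Nat.add_sub_cancel]

end Sys

/-- The count in the last step. -/
theorem regular_case (hS : Setting G Ω p) {a b : Ω} (hb : b ≠ a) {τ : G} {P : Subgroup G}
    (hP : P ≤ stabilizer G a) (hcard : Nat.card P = p ^ 2) (hreg : P ⊓ stabilizer G b = ⊥)
    (hnorm : ∀ g ∈ stabilizer G a, ∀ u ∈ P, g * u * g⁻¹ ∈ P)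
    (ho : orderOf τ = p) (hτP : τ ∈ P)
    (hτn : ∀ g ∈ stabilizer G a, g * τ * g⁻¹ ∈ Subgroup.zpowers τ)
    (hfree : ∀ g ∈ stabilizer G a ⊓ stabilizer G b, g * τ = τ * g → g = 1) : False := by
  classical
  have hp := hS.prime
  haveI : Fact p.Prime := ⟨hp⟩
  haveI := hS.faithful
  set H := stabilizer G a ⊓ stabilizer G b with hH
  set M := Subgroup.zpowers τ with hM
  have hHN : H ≤ Subgroup.normalizer (M : Set G) := by
    intro g hg
    refine Subgroup.mem_normalizer_iff.2 fun u => ⟨fun hu => ?_, fun hu => ?_⟩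
    · obtain ⟨i, rfl⟩ := Subgroup.mem_zpowers_iff.1 hu
      rw [← conj_zpow]
      exact Subgroup.zpow_mem _ (hτn g hg.1) i
    · obtain ⟨i, hi⟩ := Subgroup.mem_zpowers_iff.1 hu
      have h := Subgroup.zpow_mem _ (hτn g⁻¹ (inv_mem hg.1)) i
      rw [conj_zpow, hi] at h
      simpa [mul_assoc] using h
  let χ : H →* MulAut M := M.normalizerMonoidHom.comp (Subgroup.inclusion hHN)
  have hχ : Function.Injective χ := by
    rw [injective_iff_map_eq_one]
    intro g hg
    apply Subtype.ext
    refine hfree g g.2 ?_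
    have h : Subgroup.inclusion hHN g ∈ M.normalizerMonoidHom.ker := hg
    rw [Subgroup.normalizerMonoidHom_ker, Subgroup.mem_subgroupOf] at h
    exact (Subgroup.mem_centralizer_iff.1 h τ (Subgroup.mem_zpowers τ)).symm
  have hMc : Nat.card M = p := by rw [hM, Nat.card_zpowers, ho]
  haveI : IsCyclic M := isCyclic_of_prime_card hMc
  haveI : IsCyclic (ZMod p)ˣ := ZMod.isCyclic_units_prime hp
  haveI : IsCyclic H := by
    have h1 := IsCyclic.mulAutMulEquiv M
    rw [hMc] at h1
    haveI : IsCyclic (MulAut M) := h1.isCyclic.2 inferInstance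
    exact isCyclic_of_injective χ hχ
  have he : Nat.card H ≤ p - 1 := by
    have h := Nat.card_le_card_of_injective χ hχ
    rwa [IsCyclic.card_mulAut, hMc, Nat.totient_prime hp] at h
  have hn : Nat.card Ω = p ^ 2 + 1 := hS.degree
  have hGa : ∀ x : Ω, Nat.card (stabilizer G x) = p ^ 2 * Nat.card H := by
    intro x
    rw [hH, Sys.card_stab hS hb]
    haveI : IsPretransitive G Ω :=
      haveI := hS.two
      isPretransitive_of_is_two_pretransitive
    obtain ⟨g, rfl⟩ := exists_smul_eq G a x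
    exact Nat.card_congr (MulAction.stabilizerEquivStabilizer (rfl : g • a = g • a)).toEquiv.symm
  obtain ⟨k, hk⟩ := hp.odd_of_ne_two hS.odd
  letI : Fintype Ω := Fintype.ofFinite Ω
  have hFn : Fintype.card Ω = p ^ 2 + 1 := by rw [← Nat.card_eq_fintype_card, hn]
  haveI : IsPretransitive G Ω :=
    haveI := hS.two
    isPretransitive_of_is_two_pretransitive
  by_cases heven : 2 ∣ Nat.card H
  swap
  · -- no two-point stabiliser involution: a subgroup of index two
    have hodd : ∀ x : Ω, ¬ 2 ∣ Nat.card (stabilizer G x) := by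
      intro x h
      rw [hGa] at h
      rcases Nat.prime_two.dvd_mul.1 h with h1 | h1
      · have := Nat.prime_two.dvd_of_dvd_pow h1
        exact hS.odd ((Nat.prime_dvd_prime_iff_eq Nat.prime_two hp).1 this).symm
      · exact heven h1
    have hG : Nat.card G = (p ^ 2 + 1) * Nat.card (stabilizer G a) := by
      rw [← hn, ← index_stabilizer_of_transitive G a, Subgroup.index_mul_card]
    haveI : Fact (Nat.Prime 2) := ⟨Nat.prime_two⟩
    obtain ⟨t, ht⟩ := exists_prime_orderOf_dvd_card' 2 (hG ▸ (show 2 ∣ p ^ 2 + 1 from by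
      rw [hk]; exact ⟨2 * k * k + 2 * k + 1, by ring⟩).mul_right _ : 2 ∣ Nat.card G)
    have hfixfree : ∀ x : Ω, t • x ≠ x := fun x hx => hodd x (by
      have h := Subgroup.card_dvd_of_le (Subgroup.zpowers_le.2 (mem_stabilizer_iff.2 hx))
      rwa [Nat.card_zpowers, ht] at h)
    let φ : G →* ℤˣ := Equiv.Perm.sign.comp (MulAction.toPermHom G Ω)
    have hσ2 : (MulAction.toPermHom G Ω t) ^ 2 = 1 := by
      rw [← map_pow, ← ht, pow_orderOf_eq_one, map_one]
    have hφt : φ t = -1 := by
      show Equiv.Perm.sign (MulAction.toPermHom G Ω t) = -1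
      rw [Equiv.Perm.sign_of_pow_two_eq_one hσ2]
      have hz : Fintype.card (Function.fixedPoints (MulAction.toPermHom G Ω t)) = 0 :=
        Fintype.card_eq_zero_iff.2 ⟨fun x => hfixfree x.1 x.2⟩
      rw [hz, hFn, Nat.sub_zero]
      refine Odd.neg_one_pow ⟨k * k + k, ?_⟩
      rw [hk, show (2 * k + 1) ^ 2 + 1 = (2 * (k * k + k) + 1) * 2 by ring, Nat.mul_div_cancel _ two_pos]
    have hker : ∀ x : Ω, stabilizer G x ≤ φ.ker := by
      intro x g hg
      rw [MonoidHom.mem_ker]
      rcases Int.units_eq_one_or (φ g) with h | h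
      · exact h
      · exfalso
        have h1 : orderOf (φ g) ∣ orderOf g := orderOf_map_dvd φ g
        rw [h] at h1
        have h2 : orderOf (-1 : ℤˣ) = 2 := orderOf_eq_prime (by norm_num) (by decide)
        rw [h2] at h1
        exact hodd x (h1.trans (by
          rw [← Subgroup.orderOf_mk (H := stabilizer G x) g hg]; exact orderOf_dvd_natCard _))
    have hidx : φ.ker.index = 2 := by
      rw [Subgroup.index_ker]
      have : φ.range = ⊤ := by
        rw [eq_top_iff]
        intro u _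
        rcases Int.units_eq_one_or u with rfl | rfl
        · exact one_mem _
        · exact ⟨t, hφt⟩
      rw [this, Subgroup.card_top]
      simp
    -- the kernel is transitive and contains a point stabiliser, so it is everything
    have htop : φ.ker = ⊤ := by
      rw [eq_top_iff]
      intro g _
      by_cases hga : g • a = a
      · exact hker a hga
      · obtain ⟨c, hca, hc⟩ : ∃ c, c ≠ a ∧ c ≠ g • a := by
          by_contra hall
          push Not at hall
          have hsub : (Set.univ : Set Ω) ⊆ {a, g • a} := fun c _ => by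
            by_cases hc : c = a
            · exact Or.inl hc
            · exact Or.inr (hall c hc)
          have := (Set.ncard_le_ncard hsub).trans (Set.ncard_insert_le _ _)
          rw [Set.ncard_univ, hn, Set.ncard_singleton] at this
          have := hp.two_le
          nlinarith
        obtain ⟨u, huc, hua⟩ := Sys.exists_map hS hca (show c ≠ g • a from hc)
        have h1 : u ∈ φ.ker := hker c huc
        have h2 : u⁻¹ * g ∈ φ.ker := hker a (by
          rw [mem_stabilizer_iff, mul_smul, inv_smul_eq_iff, hua])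
        simpa using mul_mem h1 h2
    rw [htop, Subgroup.index_top] at hidx
    omega
  -- the involution of the two-point stabiliser
  haveI : Fact (Nat.Prime 2) := ⟨Nat.prime_two⟩
  obtain ⟨i₀, hi₀⟩ := exists_prime_orderOf_dvd_card' 2 heven
  set i : G := (i₀ : G) with hidef
  have hi2 : i * i = 1 := by
    have := pow_orderOf_eq_one i₀
    rw [hi₀, sq] at this
    exact congrArg Subtype.val this
  have huniq : ∀ j ∈ H, j * j = 1 → j ≠ 1 → j = i := by
    intro j hj hj2 hj1
    have ho' : orderOf (⟨j, hj⟩ : H) = 2 := orderOf_eq_prime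
      (by rw [sq]; exact Subtype.ext hj2) (fun e => hj1 (congrArg Subtype.val e))
    letI : Fintype H := Fintype.ofFinite H
    have h := IsCyclic.card_orderOf_eq_totient (α := H) (d := 2)
      (by rw [← Nat.card_eq_fintype_card]; exact heven)
    rw [Nat.totient_two] at h
    have h' := Finset.card_le_one.1 h.le ⟨j, hj⟩ (by simp [ho']) i₀ (by simp [hi₀])
    exact congrArg Subtype.val h'
  let f : G → ℕ := fun j => (Finset.univ.filter fun x : Ω => j • x = x).card
  -- fixed points of the involution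
  have hPt : orbit P b = {a}ᶜ := by
    refine Set.eq_of_subset_of_ncard_le ?_ ?_
    · rintro _ ⟨⟨g, hg⟩, rfl⟩ (e : g • b = a)
      exact hb (MulAction.injective g (e.trans (hP hg).symm))
    · rw [Set.ncard_compl, Set.ncard_singleton, hn, Nat.add_sub_cancel, ← relIndex_stabilizer,
        ← Subgroup.inf_relIndex_left, hreg, Subgroup.relIndex_bot_left, hcard]
  let CP : Subgroup G := P ⊓ Subgroup.centralizer {i}
  have hfi : f i = 1 + Nat.card CP := by
    have hset : {x : Ω | i • x = x} = insert a (orbit CP b) := by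
      ext x
      constructor
      · intro hx
        rcases eq_or_ne x a with rfl | hxa
        · exact Set.mem_insert _ _
        obtain ⟨⟨u, hu⟩, hux⟩ := hPt.symm.subset (hxa : x ∈ ({a}ᶜ : Set Ω))
        have hux' : u • b = x := hux
        refine Set.mem_insert_of_mem _ ⟨⟨u, hu, Subgroup.mem_centralizer_singleton_iff.2 ?_⟩, hux⟩
        have hc : u⁻¹ * (i * u * i⁻¹) ∈ P ⊓ stabilizer G b := by
          refine ⟨P.mul_mem (P.inv_mem hu) (hnorm i i₀.2.1 u hu), mem_stabilizer_iff.2 ?_⟩
          have hib : i • b = b := mem_stabilizer_iff.1 i₀.2.2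
          rw [mul_smul, mul_smul, mul_smul, inv_smul_eq_iff.2 hib.symm, hux',
            show i • x = x from hx, ← hux', inv_smul_smul]
        rw [hreg, Subgroup.mem_bot, inv_mul_eq_one] at hc
        exact (mul_inv_eq_iff_eq_mul.1 hc.symm).symm
      · rintro (rfl | ⟨⟨u, hu⟩, rfl⟩)
        · exact mem_stabilizer_iff.1 i₀.2.1
        · show i • u • b = u • b
          rw [← mul_smul, ← Subgroup.mem_centralizer_singleton_iff.1 hu.2, mul_smul,
            mem_stabilizer_iff.1 i₀.2.2]
    have hnotin : a ∉ orbit CP b := fun ⟨u, hu⟩ => by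
      exact hb (MulAction.injective (u : G) ((show (u : G) • b = a from hu).trans (hP u.2.1).symm))
    have hfc : f i = {x : Ω | i • x = x}.ncard := by
      rw [Set.ncard_eq_toFinset_card', Set.toFinset_ofPred]
    rw [hfc, hset, Set.ncard_insert_of_notMem hnotin, add_comm, ← relIndex_stabilizer,
      ← Subgroup.inf_relIndex_left]
    have hbot : CP ⊓ stabilizer G b = ⊥ := eq_bot_mono (inf_le_inf_right _ inf_le_left) hreg
    rw [hbot, Subgroup.relIndex_bot_left]
  have hCP : Nat.card CP = 1 ∨ Nat.card CP = p := by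
    have h : Nat.card CP ∣ p ^ 2 := hcard ▸ Subgroup.card_dvd_of_le inf_le_left
    obtain ⟨j, hj, hje⟩ := (Nat.dvd_prime_pow hp).1 h
    interval_cases j
    · exact Or.inl (by simpa using hje)
    · exact Or.inr (by simpa using hje)
    · exfalso
      have hPC : CP = P := Subgroup.eq_of_le_of_card_ge inf_le_left (by rw [hcard, hje])
      have hmem : τ ∈ CP := hPC.symm ▸ hτP
      have h1 := hfree i i₀.2 (Subgroup.mem_centralizer_singleton_iff.1 hmem.2).symm
      have h2 : i₀ = 1 := Subtype.ext h1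
      rw [h2, orderOf_one] at hi₀
      omega
  -- conjugates of the involution
  letI : Fintype G := Fintype.ofFinite G
  let Cls : Finset G := Finset.univ.filter fun j => ∃ g, g * i * g⁻¹ = j
  let pairs : Finset (Ω × Ω) := (Finset.univ : Finset Ω).offDiag
  have hpairs : pairs.card = (p ^ 2 + 1) * p ^ 2 := by
    rw [Finset.offDiag_card, Finset.card_univ, hFn, mul_add, mul_one,
      Nat.add_sub_cancel]
  have hf : ∀ j ∈ Cls, f j = f i := by
    intro j hj
    obtain ⟨g, rfl⟩ := (Finset.mem_filter.1 hj).2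
    refine Finset.card_equiv (MulAction.toPerm g⁻¹) fun x => ?_
    simp only [Finset.mem_filter, Finset.mem_univ, true_and, MulAction.toPerm_apply, mul_smul]
    constructor
    · intro h; conv_rhs => rw [← h]
      rw [inv_smul_smul]
    · intro h; rw [h, smul_inv_smul]
  have hone : ∀ q ∈ pairs, (Cls.filter fun j => j • q.1 = q.1 ∧ j • q.2 = q.2).card = 1 := by
    rintro ⟨x, y⟩ hq
    have hxy : x ≠ y := (Finset.mem_offDiag.1 hq).2.2
    obtain ⟨g, hgx, hgy⟩ := Sys.exists_map hS (Ne.symm hb) hxy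
    rw [Finset.card_eq_one]
    refine ⟨g * i * g⁻¹, Finset.eq_singleton_iff_unique_mem.2 ⟨?_, ?_⟩⟩
    · simp only [Finset.mem_filter, Cls, Finset.mem_univ, true_and]
      refine ⟨⟨g, rfl⟩, ?_, ?_⟩
      · rw [mul_smul, mul_smul, inv_smul_eq_iff.2 hgx.symm, mem_stabilizer_iff.1 i₀.2.1, hgx]
      · rw [mul_smul, mul_smul, inv_smul_eq_iff.2 hgy.symm, mem_stabilizer_iff.1 i₀.2.2, hgy]
    · intro j hj
      simp only [Finset.mem_filter, Cls, Finset.mem_univ, true_and] at hj
      obtain ⟨⟨g', hg'⟩, hjx, hjy⟩ := hj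
      have h : g⁻¹ * j * g = i := by
        refine huniq _ ⟨mem_stabilizer_iff.2 ?_, mem_stabilizer_iff.2 ?_⟩ ?_ ?_
        · rw [mul_smul, mul_smul, hgx, hjx, ← hgx, inv_smul_smul]
        · rw [mul_smul, mul_smul, hgy, hjy, ← hgy, inv_smul_smul]
        · rw [← hg', show g⁻¹ * (g' * i * g'⁻¹) * g * (g⁻¹ * (g' * i * g'⁻¹) * g) =
            g⁻¹ * (g' * (i * i) * g'⁻¹) * g by group, hi2]
          group
        · intro e
          have h1 : i = 1 := by
            rw [← hg'] at e
            calc i = g'⁻¹ * g * (g⁻¹ * (g' * i * g'⁻¹) * g) * g⁻¹ * g' := by group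
              _ = 1 := by rw [e]; group
          have h2 : i₀ = 1 := Subtype.ext h1
          rw [h2, orderOf_one] at hi₀
          omega
      rw [← h]; group
  have hcount1 : Cls.card * (f i * (f i - 1)) = pairs.card := by
    have h := Finset.sum_card_bipartiteAbove_eq_sum_card_bipartiteBelow (s := Cls) (t := pairs)
      (fun (j : G) (q : Ω × Ω) => j • q.1 = q.1 ∧ j • q.2 = q.2)
    simp only [Finset.bipartiteAbove, Finset.bipartiteBelow] at h
    rw [Finset.sum_congr rfl hone, Finset.sum_const, smul_eq_mul, mul_one] at h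
    rw [← h, ← smul_eq_mul, ← Finset.sum_const]
    refine Finset.sum_congr rfl fun j hj => ?_
    rw [← hf j hj]
    have hq : (pairs.filter fun q => j • q.1 = q.1 ∧ j • q.2 = q.2) =
        (Finset.univ.filter fun x : Ω => j • x = x).offDiag := by
      ext ⟨u, v⟩
      simp only [pairs, Finset.mem_filter, Finset.mem_offDiag, Finset.mem_univ, true_and]
      tauto
    rw [hq, Finset.offDiag_card, Nat.mul_sub_one]
  have hfle : f i ≤ p ^ 2 + 1 := hFn ▸ Finset.card_le_univ _
  have hmoved : Cls.card * (p ^ 2 + 1 - f i) ≤ pairs.card * Nat.card H := by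
    have h := Finset.sum_card_bipartiteAbove_eq_sum_card_bipartiteBelow (s := Cls) (t := pairs)
      (fun (j : G) (q : Ω × Ω) => j • q.1 = q.2)
    simp only [Finset.bipartiteAbove, Finset.bipartiteBelow] at h
    have hl : ∀ j ∈ Cls, p ^ 2 + 1 - f i = (pairs.filter fun q => j • q.1 = q.2).card := by
      intro j hj
      rw [← hf j hj, ← hFn, ← Finset.card_compl]
      refine Finset.card_bij' (fun x _ => (x, j • x)) (fun q _ => q.1) (fun x hx => ?_)
        (fun q hq => ?_) (fun x _ => rfl) (fun q hq => ?_)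
      · simp only [Finset.mem_compl, Finset.mem_filter, Finset.mem_univ, true_and] at hx
        simp only [pairs, Finset.mem_filter, Finset.mem_offDiag, Finset.mem_univ, true_and,
          and_true]
        exact fun e => hx e.symm
      · simp only [pairs, Finset.mem_filter, Finset.mem_offDiag, Finset.mem_univ, true_and] at hq
        simp only [Finset.mem_compl, Finset.mem_filter, Finset.mem_univ, true_and]
        exact fun e => hq.1 (e.symm.trans hq.2)
      · simp only [Finset.mem_filter] at hq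
        exact Prod.ext rfl hq.2
    rw [← smul_eq_mul, ← smul_eq_mul, ← Finset.sum_const, ← Finset.sum_const,
      Finset.sum_congr rfl hl, h]
    refine Finset.sum_le_sum fun q hq => ?_
    have hxy : q.1 ≠ q.2 := (Finset.mem_offDiag.1 hq).2.2
    obtain ⟨g, hgx, hgy⟩ := Sys.exists_map hS (Ne.symm hb) hxy
    obtain ⟨s, hsa, hsb⟩ := Sys.exists_map hS (Ne.symm hb) hb
    have hinvol : ∀ j ∈ Cls, j * j = 1 := fun j hj => by
      obtain ⟨g', rfl⟩ := (Finset.mem_filter.1 hj).2
      rw [show g' * i * g'⁻¹ * (g' * i * g'⁻¹) = g' * (i * i) * g'⁻¹ by group, hi2]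
      group
    rw [Nat.card_eq_fintype_card, ← Finset.card_univ]
    refine Finset.card_le_card_of_injOn (fun j => if hm : s⁻¹ * (g⁻¹ * j * g) ∈ H then
      (⟨_, hm⟩ : H) else 1) (fun j _ => Finset.mem_univ _) ?_
    have hmem : ∀ j ∈ Cls.filter (fun j => j • q.1 = q.2), s⁻¹ * (g⁻¹ * j * g) ∈ H := by
      intro j hj
      obtain ⟨hjC, hjq⟩ := Finset.mem_filter.1 hj
      have hback : j • q.2 = q.1 := by rw [← hjq, ← mul_smul, hinvol j hjC, one_smul]
      refine ⟨mem_stabilizer_iff.2 ?_, mem_stabilizer_iff.2 ?_⟩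
      · rw [mul_smul, mul_smul, mul_smul, hgx, hjq, ← hgy, inv_smul_smul, ← hsa, inv_smul_smul]
      · rw [mul_smul, mul_smul, mul_smul, hgy, hback, ← hgx, inv_smul_smul, inv_smul_eq_iff, hsb]
    intro j hj j' hj' e
    simp only [dif_pos (hmem j hj), dif_pos (hmem j' hj')] at e
    simpa using congrArg Subtype.val e
  rw [hpairs] at hcount1 hmoved
  rw [hfi] at hcount1 hmoved
  rcases hCP with hc | hc <;> rw [hc] at hcount1 hmoved
  · -- exactly two fixed points
    have h1 : Cls.card * (p ^ 2 - 1) ≤ Cls.card * 2 * (p - 1) := by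
      calc Cls.card * (p ^ 2 - 1) = Cls.card * (p ^ 2 + 1 - (1 + 1)) := by congr 1
        _ ≤ (p ^ 2 + 1) * p ^ 2 * Nat.card H := hmoved
        _ ≤ (p ^ 2 + 1) * p ^ 2 * (p - 1) := Nat.mul_le_mul_left _ he
        _ = Cls.card * 2 * (p - 1) := by rw [← hcount1]
    have hpos : 0 < Cls.card := by
      rcases Nat.eq_zero_or_pos Cls.card with h0 | h0
      · rw [h0, zero_mul] at hcount1
        have := hp.pos
        have : 0 < (p ^ 2 + 1) * p ^ 2 := by positivity
        omega
      · exact h0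
    rw [mul_assoc] at h1
    have h2 := Nat.le_of_mul_le_mul_left h1 hpos
    have h3 : p * p ≥ 3 * p := Nat.mul_le_mul_right p (by have := hp.two_le; have := hS.odd; omega)
    rw [sq] at h2
    omega
  · -- the fixed sets would be a linear space
    rw [Nat.add_sub_cancel_left] at hcount1
    have h2 : (p ^ 2 + 1) * p = Cls.card * (p + 1) := by
      apply Nat.eq_of_mul_eq_mul_right hp.pos
      rw [show Cls.card * (p + 1) * p = Cls.card * ((1 + p) * p) by ring, hcount1]; ring
    have h3 : (p + 1) ∣ (p ^ 2 + 1) * p + 2 := by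
      have : (p ^ 2 + 1) * p + 2 + p * (p + 1) = (p + 1) * (p ^ 2 + 2) := by ring
      have h4 : (p + 1) ∣ (p ^ 2 + 1) * p + 2 + p * (p + 1) := this ▸ dvd_mul_right _ _
      exact (Nat.dvd_add_left (dvd_mul_left _ _)).1 h4
    rw [h2] at h3
    have h4 : p + 1 ≤ 2 := Nat.le_of_dvd two_pos ((Nat.dvd_add_right (dvd_mul_left _ _)).1 h3)
    have := hp.two_le
    omega

namespace Sys

variable (S : Sys G Ω p) (hS : Setting G Ω p)
include S hS

/-- There is no system whose kernel has a normal subgroup of order `p`. -/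
theorem not_normalCyc {a b : Ω} (hb : b ≠ a) : ¬ S.NormalCyc a := by
  rintro ⟨τ, hτ, ho, hn⟩
  have hp := hS.prime
  obtain ⟨P, hP, -⟩ := exists_syl hp (bot_le : (⊥ : Subgroup G) ≤ stabilizer G a) IsPGroup.of_bot
  obtain ⟨τ', hτ'P, hτ', ho', -, -⟩ := S.exists_tau hS hb hP
  have hz : Subgroup.zpowers τ' = Subgroup.zpowers τ := by
    refine Subgroup.eq_of_le_of_card_ge (Subgroup.zpowers_le.2
      (S.mem_zpowers_of_normal hS hb hτ ho (fun g hg => hn g hg.1) hτ' ho')) ?_
    rw [Nat.card_zpowers, Nat.card_zpowers, ho, ho']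
  have hτP : τ ∈ P := (Subgroup.zpowers_le.2 hτ'P) (hz ▸ Subgroup.mem_zpowers τ)
  set M := Subgroup.zpowers τ
  have hM : M ≤ S.Ker a := Subgroup.zpowers_le.2 hτ
  have hMn : ∀ g : G, g • a = a → ∀ m ∈ M, g⁻¹ * m * g ∈ M := by
    intro g hg m hm
    obtain ⟨i, rfl⟩ := Subgroup.mem_zpowers_iff.1 hm
    have h := Subgroup.zpow_mem _ (hn g⁻¹ (inv_smul_eq_iff.2 hg.symm)) i
    rwa [conj_zpow, inv_inv] at h
  have hbot := S.centralizer_inf_eq_bot hS hb hM hMn (S.orbit_zpowers hS hb hτ ho).1
  let C : Subgroup G := stabilizer G a ⊓ Subgroup.centralizer (M : Set G)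
  have hreg : C ⊓ stabilizer G b = ⊥ := by rw [← hbot]; simp [C, inf_right_comm]
  have hPC : P ≤ C := fun u hu => ⟨hP.le hu, Subgroup.mem_centralizer_iff.2 fun m hm => by
    haveI : Fact p.Prime := ⟨hp⟩
    have hm' : m ∈ P := (Subgroup.zpowers_le.2 hτP) hm
    exact congrArg Subtype.val
      ((IsPGroup.isMulCommutative_of_card_eq_prime_sq (S.card_syl hS hb hP).1).is_comm.comm
        (⟨m, hm'⟩ : P) ⟨u, hu⟩)⟩
  have hPeq := S.eq_syl_of_semiregular hS hb hP inf_le_left hreg hPC
  refine regular_case hS hb hP.le (S.card_syl hS hb hP).1 (S.card_syl hS hb hP).2 ?_ ho hτP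
    (fun g hg => hn g hg) ?_
  · intro g hg u hu
    rw [hPeq] at hu ⊢
    refine ⟨(stabilizer G a).mul_mem ((stabilizer G a).mul_mem hg hu.1) ((stabilizer G a).inv_mem hg),
      Subgroup.mem_centralizer_iff.2 fun m hm => ?_⟩
    have h1 := Subgroup.mem_centralizer_iff.1 hu.2 _ (hMn g hg m hm)
    calc m * (g * u * g⁻¹) = g * ((g⁻¹ * m * g) * u) * g⁻¹ := by group
      _ = g * (u * (g⁻¹ * m * g)) * g⁻¹ := by rw [h1]
      _ = g * u * g⁻¹ * m := by group
  · intro g hg hc
    have hmem : g ∈ stabilizer G a ⊓ stabilizer G b ⊓ Subgroup.centralizer (M : Set G) :=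
      ⟨hg, Subgroup.mem_centralizer_iff.2 fun m hm => by
        obtain ⟨i, rfl⟩ := Subgroup.mem_zpowers_iff.1 hm
        exact ((show Commute τ g from hc.symm).zpow_left i).eq⟩
    rwa [hbot, Subgroup.mem_bot] at hmem

/-- There is no system at all. -/
theorem false_of_sys {a b : Ω} (hb : b ≠ a) : False := by
  classical
  have hp := hS.prime
  haveI : Fact p.Prime := ⟨hp⟩
  have hnc := S.not_normalCyc hS hb
  obtain ⟨P, τ, y, hP, hτP, hτ, ho, hPK, hy, hnR, hfix, hcomm⟩ := S.exists_normalising hS hb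
  have hya : y • a = a := hP.le hy
  have horbT := (S.orbit_zpowers hS hb hτ ho).1
  have hyc : ∀ k ∈ S.Ker a, y * k = k * y := by
    intro k hk
    have key : ∀ z ∈ S.blk a b, y • k • z = k • y • z := by
      intro z hz
      obtain ⟨⟨u, hu⟩, huz⟩ := horbT.symm.subset hz
      have huz' : u • b = z := huz
      obtain ⟨⟨v, hv⟩, hvz⟩ := horbT.symm.subset
        (S.trans hz (hk.2 z (S.ne_right hz)) : k • z ∈ S.blk a b)
      have hvz' : v • b = k • z := hvz
      have hzK : Subgroup.zpowers τ ≤ S.Ker a := Subgroup.zpowers_le.2 hτ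
      have hg : v⁻¹ * k * u ∈ S.Kst a b :=
        ⟨(S.Ker a).mul_mem ((S.Ker a).mul_mem ((S.Ker a).inv_mem (hzK hv)) hk) (hzK hu),
          mem_stabilizer_iff.2 (by rw [mul_smul, mul_smul, huz', inv_smul_eq_iff, hvz'])⟩
      have h1 : (v⁻¹ * k * u) • y • b = y • b := hfix _ hg
      have hzP : Subgroup.zpowers τ ≤ P := Subgroup.zpowers_le.2 hτP
      rw [mul_smul, mul_smul, inv_smul_eq_iff] at h1
      rw [← hvz', ← huz', ← mul_smul y v, ← mul_smul y u, hcomm y hy v (hzP hv),
        hcomm y hy u (hzP hu), mul_smul, mul_smul]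
      exact h1.symm
    have h1 : k⁻¹ * (y⁻¹ * k * y) = 1 := by
      refine S.eq_one_of_fix_blk hS hb
        ((S.Ker a).mul_mem ((S.Ker a).inv_mem hk) (S.Ker_conj hya hk)) fun z hz => ?_
      rw [mul_smul, mul_smul, mul_smul, ← key z hz, inv_smul_smul, inv_smul_smul]
    rw [inv_mul_eq_one] at h1
    calc y * k = y * (y⁻¹ * k * y) := by rw [← h1]
      _ = k * y := by group
  let C : Subgroup G := stabilizer G a ⊓ Subgroup.centralizer (S.Ker a : Set G)
  have hCn : ∀ g : G, g • a = a → ∀ u ∈ C, g * u * g⁻¹ ∈ C := by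
    intro g hg u hu
    refine ⟨(stabilizer G a).mul_mem ((stabilizer G a).mul_mem hg hu.1)
      ((stabilizer G a).inv_mem hg), Subgroup.mem_centralizer_iff.2 fun m hm => ?_⟩
    have h1 := Subgroup.mem_centralizer_iff.1 hu.2 _ (S.Ker_conj hg hm)
    calc m * (g * u * g⁻¹) = g * ((g⁻¹ * m * g) * u) * g⁻¹ := by group
      _ = g * (u * (g⁻¹ * m * g)) * g⁻¹ := by rw [h1]
      _ = g * u * g⁻¹ * m := by group
  have hreg : ∀ z, z ≠ a → C ⊓ stabilizer G z = ⊥ := fun z hz => by
    rw [← S.centralizer_inf_eq_bot hS hz le_rfl (fun g hg m hm => S.Ker_conj hg hm)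
      (S.orbit_Ker hS hz)]
    simp [C, inf_right_comm]
  have hCK : C ⊓ S.Ker a = ⊥ := by
    rw [Subgroup.eq_bot_iff_forall]
    intro z hz
    have hfixb : ∀ k ∈ S.Kst a b, k • z • b = z • b := fun k hk => by
      rw [← mul_smul, Subgroup.mem_centralizer_iff.1 hz.1.2 k hk.1, mul_smul,
        mem_stabilizer_iff.1 hk.2]
    by_cases hzb : z • b = b
    · have : z ∈ C ⊓ stabilizer G b := ⟨hz.1, mem_stabilizer_iff.2 hzb⟩
      rwa [hreg b hb, Subgroup.mem_bot] at this
    · exfalso
      have hzm : z • b ∈ S.blk a b := hz.2.2 b hb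
      obtain ⟨d, hd, hdb, hdz⟩ : ∃ d ∈ S.blk a b, d ≠ b ∧ d ≠ z • b := by
        by_contra hall
        push Not at hall
        have h := (Set.ncard_le_ncard (fun d hd => by
          rcases eq_or_ne d b with rfl | hdb
          · exact Or.inl rfl
          · exact Or.inr (hall d hd hdb) : S.blk a b ⊆ {b, z • b})).trans (Set.ncard_insert_le _ _)
        rw [S.ncard_blk hb, Set.ncard_singleton] at h
        have := hp.two_le
        have := hS.odd
        omega
      obtain ⟨k, hk, hkd⟩ := S.transitive_of_not_normalCyc hS hb hnc hzm hd hzb hdb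
      exact hdz (hkd.symm.trans (hfixb k hk))
  have hyC : y ∈ C := ⟨hya, Subgroup.mem_centralizer_iff.2 fun k hk => (hyc k hk).symm⟩
  -- the centraliser has order p
  have hCsemi : ∀ x : SubMulAction.ofStabilizer G a,
      stabilizer (C.subgroupOf (stabilizer G a)) x = ⊥ := by
    intro x
    rw [Subgroup.eq_bot_iff_forall]
    intro g hg
    have h1 : ((g : stabilizer G a) : G) ∈ C ⊓ stabilizer G (x : Ω) :=
      ⟨Subgroup.mem_subgroupOf.1 g.2, mem_stabilizer_iff.2 (congrArg Subtype.val hg)⟩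
    rw [hreg x x.2, Subgroup.mem_bot] at h1
    exact Subtype.ext (Subtype.ext h1)
  have hdvd : Nat.card C ∣ p ^ 2 := by
    have h := Perm.card_dvd_of_semiregular (N := C.subgroupOf (stabilizer G a)) hCsemi
    rw [Nat.card_congr (Subgroup.subgroupOfEquivOfLe (inf_le_left : C ≤ stabilizer G a)).toEquiv] at h
    have hc : Nat.card (SubMulAction.ofStabilizer G a) = p ^ 2 := by
      have e : ((SubMulAction.ofStabilizer G a : SubMulAction _ Ω) : Set Ω) = {a}ᶜ :=
        SubMulAction.ofStabilizer_carrier G a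
      show ((SubMulAction.ofStabilizer G a : SubMulAction _ Ω) : Set Ω).ncard = p ^ 2
      rw [e, Set.ncard_compl, Set.ncard_singleton, hS.degree, Nat.add_sub_cancel]
    rwa [hc] at h
  obtain ⟨j, hj, hje⟩ := (Nat.dvd_prime_pow hp).1 hdvd
  interval_cases j
  · have hC1 : C = ⊥ := Subgroup.eq_bot_of_card_eq _ (by simpa using hje)
    rw [hC1, Subgroup.mem_bot] at hyC
    exact hnR (by rw [hyC, one_smul]; exact S.refl hb)
  · rw [pow_one] at hje
    have hmk : ∀ y z : Ω, (y ≠ a ∧ z ∈ orbit C y) → y ≠ a ∧ z ≠ a := by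
      rintro y _ ⟨hy, ⟨⟨u, hu⟩, rfl⟩⟩
      exact ⟨hy, fun e => hy (MulAction.injective u ((show u • y = a from e).trans hu.1.symm))⟩
    let S' : Sys G Ω p := ofClasses a (fun y z => y ≠ a ∧ z ∈ orbit C y) hS.two hmk
      (fun y hy => ⟨hy, mem_orbit_self y⟩)
      (fun y z h => ⟨(hmk y z h).2, mem_orbit_symm.1 h.2⟩)
      (fun y z w h h' => ⟨h.1, by rw [← orbit_eq_iff.2 h.2]; exact h'.2⟩)
      (fun g hg y z h => by
        obtain ⟨hy, ⟨u, hu⟩, rfl⟩ := h
        refine ⟨fun e => hy (MulAction.injective g (e.trans hg.symm)),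
          ⟨⟨g * u * g⁻¹, hCn g hg u hu⟩, ?_⟩⟩
        show (g * u * g⁻¹) • g • y = g • u • y
        rw [mul_smul, mul_smul, inv_smul_smul])
      (fun y hy => by
        have e : {z | y ≠ a ∧ z ∈ orbit C y} = orbit C y :=
          Set.ext fun z => ⟨fun h => h.2, fun h => ⟨hy, h⟩⟩
        rw [e, ← relIndex_stabilizer, ← Subgroup.inf_relIndex_left, hreg y hy,
          Subgroup.relIndex_bot_left, hje])
    obtain ⟨⟨ρ, hρ⟩, hgen⟩ := (isCyclic_of_prime_card hje).exists_generator
    have hCz : C = Subgroup.zpowers ρ := by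
      refine le_antisymm (fun g hg => ?_) (Subgroup.zpowers_le.2 hρ)
      obtain ⟨k, hk⟩ := Subgroup.mem_zpowers_iff.1 (hgen ⟨g, hg⟩)
      exact Subgroup.mem_zpowers_iff.2 ⟨k, congrArg Subtype.val hk⟩
    apply S'.not_normalCyc hS hb
    refine ⟨ρ, ⟨hρ.1, fun z hz => ⟨1, one_smul G a, ?_⟩⟩, ?_, fun g hg => hCz ▸ hCn g hg ρ hρ⟩
    · rw [inv_one, one_smul, one_smul]
      exact ⟨hz, ⟨ρ, hρ⟩, rfl⟩
    · rw [← Nat.card_zpowers, ← hCz, hje]
  · have hCp : IsPGroup p C := IsPGroup.of_card hje
    obtain ⟨P', hP', hCP⟩ := exists_syl hp (inf_le_left : C ≤ stabilizer G a) hCp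
    have hPC : C = P' :=
      Subgroup.eq_of_le_of_card_ge hCP (by rw [hje, (S.card_syl hS hb hP').1])
    obtain ⟨τ', hτ'P, hτ', ho', -, -⟩ := S.exists_tau hS hb hP'
    have h1 : τ' ∈ C ⊓ S.Ker a := ⟨hPC ▸ hτ'P, hτ'⟩
    rw [hCK, Subgroup.mem_bot] at h1
    rw [h1, orderOf_one] at ho'
    exact hp.ne_one ho'.symm

end Sys

end Cfsg.Agent.DoublyPrimitive
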