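import Mathlib.NumberTheory.Cyclotomic.PrimitiveRoots
import Mathlib.NumberTheory.LegendreSymbol.AddCharacter
import Mathlib.Data.Rat.Lemmas
import Cfsg.Agent.Lib.Perm.PrimeDegree
import Cfsg.Agent.Lib.Perm.Basic

/-!
# Two lemmas for groups with an action of prime degree

* `conj_mem_of_fix_second`: in a transitive action of prime degree, a subgroup normalised by a
  point stabiliser, contained in it and fixing a second point, fixes every point (Burnside);
* `eq_singleton_or_compl`: a subset of `ZMod p` whose self-correlation and `p`-th convolution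
  power are constant off one point is a singleton or the complement of one.
-/

set_option autoImplicit false

namespace Cfsg.Agent.DoublyPrimitive

open MulAction

/-- A faithful transitive solvable action of prime degree has only trivial two-point stabilisers. -/
theorem eq_one_of_solvable {α : Type*} [Finite α] {G : Subgroup (Equiv.Perm α)}
    [IsPretransitive G α] (hp : (Nat.card α).Prime) [Group.IsSolvable G] {g : G} {u v : α}
    (huv : u ≠ v) (hu : g • u = u) (hv : g • v = v) : g = 1 := by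
  haveI : Nontrivial G := by
    obtain ⟨k, hk⟩ := exists_smul_eq G u v
    refine ⟨⟨k, 1, fun h => huv ?_⟩⟩
    rw [← hk, h, one_smul]
  classical
  obtain ⟨n, hn⟩ := (Group.isSolvable_def G).1 inferInstance
  have hex : ∃ n, derivedSeries G n = ⊥ := ⟨n, hn⟩
  obtain ⟨m, hm⟩ : ∃ m, Nat.find hex = m + 1 := by
    refine Nat.exists_eq_succ_of_ne_zero fun h => ?_
    have := Nat.find_spec hex
    rw [h, derivedSeries_zero] at this
    exact top_ne_bot this
  set A := derivedSeries G m with hA
  haveI hAn : A.Normal := derivedSeries_normal G m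
  have hAne : A ≠ ⊥ := Nat.find_min hex (by omega)
  haveI hAc : IsMulCommutative A := by
    have h := Nat.find_spec hex
    rw [hm, derivedSeries_succ, Subgroup.commutator_eq_bot_iff_le_centralizer] at h
    exact ⟨⟨fun a b => Subtype.ext (Subgroup.mem_centralizer_iff.1 (h b.2) _ a.2)⟩⟩
  haveI : IsPreprimitive G α := IsPreprimitive.of_prime_card hp
  have hAt : IsPretransitive A α := by
    refine Perm.isPretransitive_of_normal (G := G) fun h => hAne ?_
    exact h
  have hAs := Perm.semiregular_of_abelian (N := A) hAt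
  have hcard : Nat.card A = Nat.card α := Perm.card_eq_of_regular (hAs u)
  obtain ⟨σ, hσu⟩ := exists_smul_eq A u v
  have hσ1 : σ ≠ 1 := fun h => huv (by rw [← hσu, h, one_smul])
  set τ : A := ⟨g * σ * g⁻¹, hAn.conj_mem _ σ.2 g⟩ with hτdef
  have hτσ : τ = σ := by
    have h1 : τ⁻¹ * σ ∈ stabilizer A u := by
      rw [mem_stabilizer_iff, mul_smul, inv_smul_eq_iff, hσu]
      show v = (g * (σ : G) * g⁻¹) • u
      rw [mul_smul, mul_smul, inv_smul_eq_iff.2 hu.symm,
        show (σ : G) • u = v from hσu, hv]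
    rw [hAs u, Subgroup.mem_bot, inv_mul_eq_one] at h1
    exact h1
  have hcomm : Commute g (σ : G) := by
    have h := congrArg Subtype.val hτσ
    exact mul_inv_eq_iff_eq_mul.1 h
  haveI : Fact (Nat.card α).Prime := ⟨hp⟩
  have hgen : Subgroup.zpowers σ = ⊤ := zpowers_eq_top_of_prime_card hcard hσ1
  apply FaithfulSMul.eq_of_smul_eq_smul (α := α)
  intro x
  obtain ⟨a, rfl⟩ := exists_smul_eq A u x
  obtain ⟨k, rfl⟩ := Subgroup.mem_zpowers_iff.1 (hgen.ge (Subgroup.mem_top a))
  rw [one_smul]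
  show g • (((σ ^ k : A) : G) • u) = ((σ ^ k : A) : G) • u
  rw [Subgroup.coe_zpow, ← mul_smul, (hcomm.zpow_right k).eq, mul_smul, hu]

/-- In a faithful transitive action of prime degree a subgroup normalised by the stabiliser of `u`,
fixing `u` and another point, is trivial. -/
theorem eq_one_of_fix_second {α : Type*} [Finite α] {G : Subgroup (Equiv.Perm α)}
    [IsPretransitive G α] (hp : (Nat.card α).Prime) (N : Subgroup G) {u v : α} (huv : u ≠ v)
    (hnorm : ∀ g : G, g • u = u → ∀ n ∈ N, g⁻¹ * n * g ∈ N)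
    (hu : ∀ n ∈ N, n • u = u) (hv : ∀ n ∈ N, n • v = v) : ∀ n ∈ N, n = 1 := by
  intro n hn
  by_cases hs : Group.IsSolvable G
  · exact eq_one_of_solvable hp huv (hu n hn) (hv n hn)
  · letI : Fintype α := Fintype.ofFinite α
    letI : DecidableEq α := Classical.decEq α
    haveI : Fact (Nat.card α).Prime := ⟨hp⟩
    have h2 := Perm.PrimeDegree.twoTransitive_of_not_isSolvable (p := Nat.card α)
      Nat.card_eq_fintype_card.symm hs
    apply FaithfulSMul.eq_of_smul_eq_smul (α := α)
    intro x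
    rw [one_smul]
    rcases eq_or_ne x u with rfl | hx
    · exact hu n hn
    obtain ⟨g, hgu, hgv⟩ := (is_two_pretransitive_iff.1 h2) huv hx.symm
    have h := hv _ (hnorm g hgu n hn)
    rw [mul_smul, mul_smul, inv_smul_eq_iff, hgv] at h
    exact h

/-- A subgroup `N` of `S` normalised by `S`, with `S` of prime index in `W`, that lies in a second
conjugate of `S` lies in all of them. -/
theorem conj_mem_of_fix_second {G : Type*} [Group G] [Finite G] {p : ℕ} (hp : p.Prime)
    {W S : Subgroup G} (hidx : S.relIndex W = p) (hSW : S ≤ W) {N : Subgroup G} (hNS : N ≤ S)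
    (M : Subgroup G) (hMS : M ≤ S) (hMn : ∀ w ∈ W, ∀ m ∈ M, w⁻¹ * m * w ∈ M)
    (hnorm : ∀ g ∈ S, ∀ n ∈ N, g⁻¹ * n * g ∈ N ⊔ M)
    {h : G} (hh : h ∈ W) (hhS : h ∉ S) (hfix : ∀ n ∈ N, h⁻¹ * n * h ∈ S) :
    ∀ w ∈ W, ∀ n ∈ N ⊔ M, w⁻¹ * n * w ∈ S := by
  let S' : Subgroup W := S.subgroupOf W
  let X := W ⧸ S'
  have hX : Nat.card X = p := hidx
  let φ : W →* Equiv.Perm X := MulAction.toPermHom W X
  let I : Subgroup (Equiv.Perm X) := φ.range
  have hsmul : ∀ (w : W) (x : X), (⟨φ w, w, rfl⟩ : I) • x = w • x := fun _ _ => rfl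
  haveI : IsPretransitive I X :=
    ⟨fun x y => by
      obtain ⟨w, hw⟩ := exists_smul_eq W x y
      exact ⟨⟨φ w, w, rfl⟩, (hsmul w x).trans hw⟩⟩
  let N₁ : Subgroup W := (N ⊔ M).subgroupOf W
  let N' : Subgroup I := N₁.map φ.rangeRestrict
  let u : X := ((1 : W) : X)
  let v : X := ((⟨h, hh⟩ : W) : X)
  have hNW : N ⊔ M ≤ W := (sup_le hNS hMS).trans hSW
  have key : ∀ (n : W) (w : W), n • ((w : W) : X) = ((w : W) : X) ↔
      (w : G)⁻¹ * n * w ∈ S := by
    intro n w
    rw [MulAction.Quotient.smul_coe, eq_comm, QuotientGroup.eq, Subgroup.mem_subgroupOf]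
    simp only [smul_eq_mul, Subgroup.coe_mul, Subgroup.coe_inv, mul_assoc]
  have hgen : ∀ (w : W), (∀ n ∈ N, (w : G)⁻¹ * n * w ∈ S) →
      ∀ n ∈ N₁, n • ((w : W) : X) = ((w : W) : X) := by
    intro w hw n hn
    rw [key]
    have hle : N ⊔ M ≤ S.comap (MulAut.conj (w : G)⁻¹).toMonoidHom := by
      refine sup_le (fun x hx => ?_) (fun x hx => ?_)
      · simpa [MulAut.conj_apply] using hw x hx
      · simpa [MulAut.conj_apply] using hMS (hMn w w.2 x hx)
    simpa [MulAut.conj_apply] using hle (Subgroup.mem_subgroupOf.1 hn)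
  have huv : u ≠ v := by
    intro e
    apply hhS
    have := QuotientGroup.eq.1 e
    simpa [S', Subgroup.mem_subgroupOf] using this
  have hall : ∀ n ∈ N', n = 1 := by
    refine eq_one_of_fix_second (by rw [hX]; exact hp) N' huv ?_ ?_ ?_
    · rintro ⟨_, w, rfl⟩ hwu _ ⟨n, hn, rfl⟩
      have hw : w • u = u := hwu
      rw [key] at hw
      simp only [OneMemClass.coe_one, inv_one, one_mul, mul_one] at hw
      refine ⟨w⁻¹ * n * w, Subgroup.mem_subgroupOf.2 ?_, ?_⟩
      · simp only [Subgroup.coe_mul, Subgroup.coe_inv]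
        have hle : N ⊔ M ≤ (N ⊔ M).comap (MulAut.conj (w : G)⁻¹).toMonoidHom := by
          refine sup_le (fun x hx => ?_) (fun x hx => ?_)
          · simpa [MulAut.conj_apply] using hnorm w hw x hx
          · simpa [MulAut.conj_apply] using
              Subgroup.mem_sup_right (S := N) (hMn w w.2 x hx)
        simpa [MulAut.conj_apply] using hle (Subgroup.mem_subgroupOf.1 hn)
      · simp only [map_mul, map_inv]
        rfl
    · rintro _ ⟨n, hn, rfl⟩
      exact (hsmul n u).trans (hgen 1 (fun x hx => by simpa using hNS hx) n hn)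
    · rintro _ ⟨n, hn, rfl⟩
      exact (hsmul n v).trans (hgen ⟨h, hh⟩ hfix n hn)
  intro w hw n hn
  have h1 := hall _ ⟨⟨n, hNW hn⟩, Subgroup.mem_subgroupOf.2 hn, rfl⟩
  have h2 : (⟨n, hNW hn⟩ : W) • (((⟨w, hw⟩ : W)) : X) = ((⟨w, hw⟩ : W) : X) := by
    rw [← hsmul, show (⟨φ ⟨n, hNW hn⟩, _, rfl⟩ : I) = 1 from h1, one_smul]
  exact (key _ _).1 h2

end Cfsg.Agent.DoublyPrimitive
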