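import Cfsg.Agent.Lib.DoublyPrimitive.Sys

/-!
# Sylow subgroups of the point stabiliser

The two-point stabiliser has order prime to `p`, the kernel on the classes has a Sylow subgroup of
order `p` and is faithful on each class.
-/

set_option autoImplicit false
set_option linter.unusedSectionVars false

namespace Cfsg.Agent.DoublyPrimitive

open MulAction

variable {G Ω : Type*} [Group G] [Finite G] [Finite Ω] [MulAction G Ω] {p : ℕ}

/-- `P` is a Sylow `p`-subgroup of `G_a`, seen in `G`. -/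
structure IsSyl (p : ℕ) (a : Ω) (P : Subgroup G) : Prop where
  le : P ≤ stabilizer G a
  pgroup : IsPGroup p P
  card : Nat.card P = p ^ (Nat.card (stabilizer G a)).factorization p

theorem exists_syl (hp : p.Prime) {a : Ω} {R : Subgroup G} (hR : R ≤ stabilizer G a)
    (hRp : IsPGroup p R) : ∃ P, IsSyl p a P ∧ R ≤ P := by
  haveI : Fact p.Prime := ⟨hp⟩
  obtain ⟨P, hP⟩ := (hRp.comap_subtype (K := stabilizer G a)).exists_le_sylow
  refine ⟨(P : Subgroup (stabilizer G a)).map (stabilizer G a).subtype,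
    ⟨Subgroup.map_subtype_le _, P.isPGroup'.map _, ?_⟩, ?_⟩
  · rw [Nat.card_congr (Subgroup.equivMapOfInjective _ _ Subtype.val_injective).toEquiv.symm,
      Sylow.card_eq_multiplicity]
  · intro r hr
    exact ⟨⟨r, hR hr⟩, hP hr, rfl⟩

namespace Sys

variable (S : Sys G Ω p) (hS : Setting G Ω p)
include S hS

theorem orbit_syl {a b : Ω} (hb : b ≠ a) {P : Subgroup G} (hP : IsSyl p a P) :
    orbit P b = {a}ᶜ ∧ (stabilizer G b).relIndex P = p ^ 2 := by
  have hp := hS.prime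
  haveI : Fact p.Prime := ⟨hp⟩
  have hsub : orbit P b ⊆ ({a}ᶜ : Set Ω) := by
    rintro _ ⟨⟨g, hg⟩, rfl⟩ (h : g • b = a)
    exact hb (MulAction.injective g (h.trans (hP.le hg).symm))
  have hc : ({a}ᶜ : Set Ω).ncard = p ^ 2 := by
    rw [Set.ncard_compl, Set.ncard_singleton, hS.degree, Nat.add_sub_cancel]
  set o := (orbit P b).ncard with ho
  have hle : o ≤ p ^ 2 := hc ▸ Set.ncard_le_ncard hsub
  have hidx := Subgroup.index_mul_card ((P ⊓ stabilizer G b).subgroupOf P)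
  rw [← Subgroup.relIndex, Subgroup.inf_relIndex_left, relIndex_stabilizer, ← ho,
    Nat.card_congr (Subgroup.subgroupOfEquivOfLe inf_le_left).toEquiv, hP.card] at hidx
  obtain ⟨j, hj⟩ := IsPGroup.iff_card.1 (hP.pgroup.to_le (inf_le_left : P ⊓ stabilizer G b ≤ P))
  have hcard := card_stab hS hb
  have hdvd : p ^ (j + 2) ∣ Nat.card (stabilizer G a) := by
    rw [← hcard, pow_add, mul_comm, ← hj]
    exact mul_dvd_mul_left _ (Subgroup.card_dvd_of_le (inf_le_inf_right _ hP.le))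
  have hjn := (hp.pow_dvd_iff_le_factorization Nat.card_pos.ne').1 hdvd
  rw [hj] at hidx
  have hge : p ^ 2 ≤ o := by
    by_contra hlt
    rw [not_le] at hlt
    have h1 : o * p ^ j < p ^ 2 * p ^ j := Nat.mul_lt_mul_of_pos_right hlt (pow_pos hp.pos j)
    rw [hidx, ← pow_add] at h1
    have := (Nat.pow_lt_pow_iff_right hp.one_lt).1 h1
    omega
  have heq : o = p ^ 2 := le_antisymm hle hge
  refine ⟨Set.eq_of_subset_of_ncard_le hsub (by rw [hc, ← heq]), ?_⟩
  rw [relIndex_stabilizer, ← ho, heq]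

/-- The part of a Sylow subgroup fixing the classes. -/
theorem syl_SB {a b : Ω} (hb : b ≠ a) {P : Subgroup G} (hP : IsSyl p a P) :
    (P ⊓ S.SB a b).relIndex P = p ∧ P ⊓ S.SB a b ≤ S.Ker a ∧
      orbit ↥(P ⊓ S.SB a b : Subgroup G) b = S.blk a b := by
  obtain ⟨horb, hidx⟩ := S.orbit_syl hS hb hP
  have hT : orbit ↥(P ⊓ S.SB a b : Subgroup G) b = S.blk a b := by
    ext z
    constructor
    · rintro ⟨⟨g, hg⟩, rfl⟩; exact hg.2.2 hb
    · intro hz
      obtain ⟨⟨g, hg⟩, hgz⟩ := horb.symm.subset (S.ne_right hz : z ∈ ({a}ᶜ : Set Ω))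
      refine ⟨⟨g, hg, hP.le hg, fun _ => ?_⟩, hgz⟩
      rw [show g • b = z from hgz]; exact hz
  have h1 : (P ⊓ stabilizer G b).relIndex (P ⊓ S.SB a b) = p := by
    have h : (P ⊓ stabilizer G b) ⊓ (P ⊓ S.SB a b) = stabilizer G b ⊓ (P ⊓ S.SB a b) := by
      rw [inf_assoc, inf_eq_right]
      exact inf_le_right.trans inf_le_left
    rw [← Subgroup.inf_relIndex_right, h, Subgroup.inf_relIndex_right, relIndex_stabilizer, hT,
      S.ncard_blk hb]
  have h2 : (P ⊓ stabilizer G b).relIndex P = p ^ 2 := by rw [Subgroup.inf_relIndex_left, hidx]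
  have hle : P ⊓ stabilizer G b ≤ P ⊓ S.SB a b :=
    le_inf inf_le_left ((inf_le_inf_right _ hP.le).trans S.inf_stab_le_SB)
  have h3 := Subgroup.relIndex_mul_relIndex _ _ _ hle (inf_le_left : P ⊓ S.SB a b ≤ P)
  rw [h1, h2, sq] at h3
  have hPS : (P ⊓ S.SB a b).relIndex P = p := Nat.eq_of_mul_eq_mul_left hS.prime.pos h3
  refine ⟨hPS, fun g hg => ⟨hP.le hg.1, fun y hy => ?_⟩, hT⟩
  obtain ⟨⟨h, hh⟩, hhy⟩ := horb.symm.subset (hy : y ∈ ({a}ᶜ : Set Ω))
  have hhy' : h • b = y := hhy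
  have hc := conj_mem_of_relIndex hP.pgroup hS.prime inf_le_left hPS (P.inv_mem hh) hg
  rw [inv_inv] at hc
  have h4 := S.smul h (hc.2.2 hb)
  rw [mul_smul, mul_smul, hhy', smul_inv_smul, mem_stabilizer_iff.1 (hP.le hh)] at h4
  exact h4

theorem orbit_Ker {a b : Ω} (hb : b ≠ a) : orbit (S.Ker a) b = S.blk a b := by
  obtain ⟨P, hP, -⟩ := exists_syl hS.prime (bot_le : (⊥ : Subgroup G) ≤ stabilizer G a) IsPGroup.of_bot
  obtain ⟨-, hle, horb⟩ := S.syl_SB hS hb hP
  refine Set.Subset.antisymm ?_ fun z hz => ?_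
  · rintro _ ⟨⟨g, hg⟩, rfl⟩; exact hg.2 b hb
  · obtain ⟨⟨g, hg⟩, hgz⟩ := horb.symm.subset hz
    exact ⟨⟨g, hle hg⟩, hgz⟩

theorem relIndex_Kst {a b : Ω} (hb : b ≠ a) : (S.Kst a b).relIndex (S.Ker a) = p := by
  rw [Kst, Subgroup.inf_relIndex_left, relIndex_stabilizer, S.orbit_Ker hS hb, S.ncard_blk hb]

theorem card_Kst {a b : Ω} (hb : b ≠ a) :
    p * Nat.card (S.Kst a b) = Nat.card (S.Ker a) := by
  have h := Subgroup.index_mul_card ((S.Kst a b).subgroupOf (S.Ker a))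
  rw [← Subgroup.relIndex, S.relIndex_Kst hS hb,
    Nat.card_congr (Subgroup.subgroupOfEquivOfLe (show S.Kst a b ≤ S.Ker a from inf_le_left)).toEquiv] at h
  exact h

/-- A nontrivial `p`-subgroup of the two-point stabiliser cut out by a Sylow subgroup fixes exactly
the line. -/
theorem fix_syl_inf {a b : Ω} (hb : b ≠ a) {P : Subgroup G} (hP : IsSyl p a P)
    (hne : P ⊓ stabilizer G b ≠ ⊥) : fix (P ⊓ stabilizer G b) = S.Line a b := by
  obtain ⟨hPS, hKer, horbT⟩ := S.syl_SB hS hb hP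
  obtain ⟨horb, hidx⟩ := S.orbit_syl hS hb hP
  set Pb := P ⊓ stabilizer G b with hPb
  set T := P ⊓ S.SB a b with hT
  have hle : Pb ≤ T := le_inf inf_le_left ((inf_le_inf_right _ hP.le).trans S.inf_stab_le_SB)
  have hTidx : Pb.relIndex T = p := by
    have h : Pb ⊓ T = stabilizer G b ⊓ T := by
      rw [hPb, inf_assoc, inf_eq_right]
      exact inf_le_right.trans inf_le_left
    rw [← Subgroup.inf_relIndex_right, h, Subgroup.inf_relIndex_right, relIndex_stabilizer, horbT,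
      S.ncard_blk hb]
  have hnT : ∀ g ∈ T, ∀ n ∈ Pb, g⁻¹ * n * g ∈ Pb := fun g hg n hn => by
    have := conj_mem_of_relIndex (hP.pgroup.to_le inf_le_left) hS.prime hle hTidx (T.inv_mem hg) hn
    simpa using this
  have hbfix : b ∈ fix Pb := fun n hn => mem_stabilizer_iff.1 hn.2
  refine Set.Subset.antisymm (fun y hy => ?_) ?_
  · by_cases hya : y = a
    · exact hya ▸ Set.mem_insert _ _
    by_contra hyL
    have hyR : ¬ S.R a b y := fun h => hyL (Set.mem_insert_of_mem _ h)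
    obtain ⟨⟨h, hh⟩, hhy⟩ := horb.symm.subset (hya : y ∈ ({a}ᶜ : Set Ω))
    have hhy' : h • b = y := hhy
    have hhT : h ∉ T := fun hT' => hyR (hhy' ▸ hT'.2.2 hb)
    -- the normaliser of `Pb` in `P` is everything
    let N : Subgroup G := P ⊓ Subgroup.normalizer (Pb : Set G)
    have hTN : T ≤ N := fun g hg => ⟨hg.1, Subgroup.mem_normalizer_iff''.2 fun n =>
      ⟨fun hn => hnT g hg n hn, fun hn => by
        simpa [mul_assoc] using hnT g⁻¹ (T.inv_mem hg) _ hn⟩⟩
    have hconj : ∀ n ∈ Pb, h⁻¹ * n * h ∈ Pb := fun n hn =>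
      ⟨P.mul_mem (P.mul_mem (P.inv_mem hh) hn.1) hh, mem_stabilizer_iff.2 (by
        rw [mul_smul, mul_smul, hhy', hy n hn, ← hhy', inv_smul_smul])⟩
    have hsur : ∀ n ∈ Pb, ∃ m ∈ Pb, h⁻¹ * m * h = n := by
      let f : Pb → Pb := fun n => ⟨h⁻¹ * n * h, hconj n n.2⟩
      have hf : Function.Injective f := fun m n e => Subtype.ext (by
        simpa [f] using congrArg Subtype.val e)
      intro n hn
      obtain ⟨m, hm⟩ := Finite.surjective_of_injective hf ⟨n, hn⟩
      exact ⟨m, m.2, congrArg Subtype.val hm⟩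
    have hhN : h ∈ N := ⟨hh, Subgroup.mem_normalizer_iff''.2 fun n =>
      ⟨fun hn => hconj n hn, fun hn => by
        obtain ⟨m, hm, e⟩ := hsur _ hn
        have : m = n := by simpa using e
        exact this ▸ hm⟩⟩
    have hNP : N = P := by
      refine le_antisymm inf_le_left ?_
      have h3 := Subgroup.relIndex_mul_relIndex _ _ _ hTN (inf_le_left : N ≤ P)
      rw [hPS] at h3
      rcases (Nat.prime_mul_iff.1 (h3 ▸ hS.prime)) with ⟨-, h1⟩ | ⟨-, h1⟩
      · exact Subgroup.relIndex_eq_one.1 h1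
      · exact absurd (Subgroup.relIndex_eq_one.1 h1 hhN) hhT
    apply hne
    rw [Subgroup.eq_bot_iff_forall]
    intro n hn
    haveI := hS.faithful
    apply FaithfulSMul.eq_of_smul_eq_smul (α := Ω)
    intro z
    rw [one_smul]
    rcases eq_or_ne z a with rfl | hz
    · exact mem_stabilizer_iff.1 (hP.le hn.1)
    · exact orbit_subset_fix hbfix (fun g hg m hm => by
        have hg' : g ∈ N := hNP.symm ▸ hg
        exact (Subgroup.mem_normalizer_iff''.1 hg'.2 m).1 hm)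
        (horb.symm.subset (hz : z ∈ ({a}ᶜ : Set Ω))) n hn
  · rintro z (rfl | hz)
    · exact fun n hn => mem_stabilizer_iff.1 (hP.le hn.1)
    · exact orbit_subset_fix hbfix hnT (horbT.symm.subset hz)

/-- The order of a two-point stabiliser is prime to `p`. -/
theorem not_dvd_two_stab {a b : Ω} (hb : b ≠ a) :
    ¬ p ∣ Nat.card ↥(stabilizer G a ⊓ stabilizer G b) := by
  intro hdvd
  have hp := hS.prime
  haveI : Fact p.Prime := ⟨hp⟩
  set H := stabilizer G a ⊓ stabilizer G b with hH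
  obtain ⟨R₀⟩ : Nonempty (Sylow p H) := inferInstance
  set R := (R₀ : Subgroup H).map H.subtype with hR
  have hRc : Nat.card R = p ^ (Nat.card H).factorization p := by
    rw [hR, Nat.card_congr (Subgroup.equivMapOfInjective _ _ Subtype.val_injective).toEquiv.symm,
      Sylow.card_eq_multiplicity]
  have hRH : R ≤ H := Subgroup.map_subtype_le _
  have hRp : IsPGroup p R := R₀.isPGroup'.map _
  have hpos : 0 < (Nat.card H).factorization p :=
    hp.factorization_pos_of_dvd Nat.card_pos.ne' hdvd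
  have key : ∀ x y : Ω, y ≠ x → stabilizer G x ⊓ stabilizer G y = H → fix R = S.Line x y := by
    intro x y hxy he
    obtain ⟨P, hP, hRP⟩ := exists_syl hp ((hRH.trans he.ge).trans inf_le_left) hRp
    have hle : R ≤ P ⊓ stabilizer G y := le_inf hRP ((hRH.trans he.ge).trans inf_le_right)
    have heq : R = P ⊓ stabilizer G y := by
      refine Subgroup.eq_of_le_of_card_ge hle ?_
      have hle' : P ⊓ stabilizer G y ≤ H := he ▸ inf_le_inf_right _ hP.le
      obtain ⟨j, hj⟩ := IsPGroup.iff_card.1 (hP.pgroup.to_le (inf_le_left : P ⊓ stabilizer G y ≤ P))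
      rw [hRc, hj]
      refine Nat.pow_le_pow_right hp.pos ?_
      rw [← hp.pow_dvd_iff_le_factorization Nat.card_pos.ne', ← hj]
      exact Subgroup.card_dvd_of_le hle'
    have hne : P ⊓ stabilizer G y ≠ ⊥ := by
      rw [← heq]
      intro h
      rw [h, Subgroup.card_bot] at hRc
      have h2 : (Nat.card H).factorization p = 0 :=
        (Nat.pow_eq_one.1 hRc.symm).resolve_left hp.ne_one
      omega
    rw [heq, S.fix_syl_inf hS hxy hP hne]
  exact S.not_symm_line hS (Ne.symm hb)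
    ((key a b hb rfl).symm.trans (key b a hb.symm (by rw [hH, inf_comm])))

theorem not_dvd_Kst {a b : Ω} (hb : b ≠ a) : ¬ p ∣ Nat.card (S.Kst a b) := fun h =>
  S.not_dvd_two_stab hS hb
    (h.trans (Subgroup.card_dvd_of_le (inf_le_inf_right _ S.Ker_le_stab)))

theorem card_syl {a b : Ω} (hb : b ≠ a) {P : Subgroup G} (hP : IsSyl p a P) :
    Nat.card P = p ^ 2 ∧ P ⊓ stabilizer G b = ⊥ := by
  have hp := hS.prime
  haveI : Fact p.Prime := ⟨hp⟩
  obtain ⟨j, hj⟩ := IsPGroup.iff_card.1 (hP.pgroup.to_le (inf_le_left : P ⊓ stabilizer G b ≤ P))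
  have hdvd : Nat.card ↥(P ⊓ stabilizer G b) ∣ Nat.card ↥(stabilizer G a ⊓ stabilizer G b) :=
    Subgroup.card_dvd_of_le (inf_le_inf_right _ hP.le)
  have hj0 : j = 0 := by
    by_contra h
    exact S.not_dvd_two_stab hS hb ((dvd_pow_self p h).trans (hj ▸ hdvd))
  rw [hj0, pow_zero] at hj
  have hbot := Subgroup.eq_bot_of_card_eq _ hj
  refine ⟨?_, hbot⟩
  have hidx := (S.orbit_syl hS hb hP).2
  rw [← Subgroup.inf_relIndex_left, hbot, Subgroup.relIndex_bot_left] at hidx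
  exact hidx

/-- Generators of the part of order `p` of a Sylow subgroup inside the kernel. -/
theorem exists_tau {a b : Ω} (hb : b ≠ a) {P : Subgroup G} (hP : IsSyl p a P) :
    ∃ τ, τ ∈ P ∧ τ ∈ S.Ker a ∧ orderOf τ = p ∧ P ⊓ S.Ker a = Subgroup.zpowers τ ∧
      (Subgroup.zpowers τ).relIndex P = p := by
  have hp := hS.prime
  haveI : Fact p.Prime := ⟨hp⟩
  obtain ⟨hPS, hKer, -⟩ := S.syl_SB hS hb hP
  obtain ⟨hPc, -⟩ := S.card_syl hS hb hP
  have hQ : P ⊓ S.Ker a = P ⊓ S.SB a b :=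
    le_antisymm (inf_le_inf_left _ S.Ker_le_SB) (le_inf inf_le_left hKer)
  have hc : Nat.card ↥(P ⊓ S.SB a b) = p := by
    have h := Subgroup.index_mul_card ((P ⊓ S.SB a b).subgroupOf P)
    rw [← Subgroup.relIndex, hPS,
      Nat.card_congr (Subgroup.subgroupOfEquivOfLe inf_le_left).toEquiv, hPc, sq] at h
    exact Nat.eq_of_mul_eq_mul_left hp.pos h
  obtain ⟨⟨τ, hτ⟩, hgen⟩ := (isCyclic_of_prime_card hc).exists_generator
  have hz : P ⊓ S.SB a b = Subgroup.zpowers τ := by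
    refine le_antisymm (fun g hg => ?_) (Subgroup.zpowers_le.2 hτ)
    obtain ⟨k, hk⟩ := Subgroup.mem_zpowers_iff.1 (hgen ⟨g, hg⟩)
    exact Subgroup.mem_zpowers_iff.2 ⟨k, congrArg Subtype.val hk⟩
  exact ⟨τ, hτ.1, hKer hτ, by rw [← Nat.card_zpowers, ← hz, hc], hQ.trans hz, hz ▸ hPS⟩

theorem orbit_zpowers {a b : Ω} (hb : b ≠ a) {τ : G} (hτ : τ ∈ S.Ker a) (ho : orderOf τ = p) :
    orbit (Subgroup.zpowers τ) b = S.blk a b ∧ Subgroup.zpowers τ ⊓ stabilizer G b = ⊥ := by
  have hle : Subgroup.zpowers τ ≤ S.Ker a := Subgroup.zpowers_le.2 hτ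
  have hc : Nat.card (Subgroup.zpowers τ) = p := by rw [Nat.card_zpowers, ho]
  have hbot : Subgroup.zpowers τ ⊓ stabilizer G b = ⊥ := by
    apply Subgroup.eq_bot_of_card_eq
    rcases (Nat.dvd_prime hS.prime).1 (hc ▸ Subgroup.card_dvd_of_le
      (inf_le_left : Subgroup.zpowers τ ⊓ stabilizer G b ≤ _)) with h | h
    · exact h
    · refine absurd ?_ (S.not_dvd_two_stab hS hb)
      conv_lhs => rw [← h]
      exact Subgroup.card_dvd_of_le (inf_le_inf_right _ (hle.trans S.Ker_le_stab))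
  refine ⟨Set.eq_of_subset_of_ncard_le ?_ ?_, hbot⟩
  · rintro _ ⟨⟨g, hg⟩, rfl⟩; exact (hle hg).2 b hb
  · rw [S.ncard_blk hb, ← relIndex_stabilizer, ← Subgroup.inf_relIndex_left, hbot,
      Subgroup.relIndex_bot_left, hc]

/-- The kernel is faithful on each class. -/
theorem eq_one_of_fix_blk {a b : Ω} (hb : b ≠ a) {n : G} (hn : n ∈ S.Ker a)
    (hfix : ∀ z ∈ S.blk a b, n • z = z) : n = 1 := by
  have hp := hS.prime
  haveI : Fact p.Prime := ⟨hp⟩
  let N₀ : Subgroup G := S.Ker a ⊓ fixingSubgroup G (S.blk a b)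
  have hN0 : N₀ ≤ S.Kst a b := fun g hg =>
    ⟨hg.1, mem_stabilizer_iff.2 ((mem_fixingSubgroup_iff G).1 hg.2 b (S.refl hb))⟩
  let N : Subgroup (S.Ker a) := N₀.subgroupOf (S.Ker a)
  haveI hNn : N.Normal := ⟨fun m hm k => by
    refine Subgroup.mem_subgroupOf.2 ⟨((k * m * k⁻¹ : S.Ker a)).2, (mem_fixingSubgroup_iff G).2
      fun z hz => ?_⟩
    have hz' : ((k : G)⁻¹) • z ∈ S.blk a b :=
      S.trans hz ((inv_mem k.2).2 z (S.ne_right hz))
    have h := (mem_fixingSubgroup_iff G).1 (Subgroup.mem_subgroupOf.1 hm).2 _ hz'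
    simp only [Subgroup.coe_mul, Subgroup.coe_inv, mul_smul]
    rw [h, smul_inv_smul]⟩
  have hNp : ¬ p ∣ Nat.card N := by
    rw [Nat.card_congr (Subgroup.subgroupOfEquivOfLe (inf_le_left : N₀ ≤ S.Ker a)).toEquiv]
    exact fun h => S.not_dvd_Kst hS hb (h.trans (Subgroup.card_dvd_of_le hN0))
  obtain ⟨P, hP, -⟩ := exists_syl hp (bot_le : (⊥ : Subgroup G) ≤ stabilizer G a) IsPGroup.of_bot
  obtain ⟨τ, -, hτ, ho, -, -⟩ := S.exists_tau hS hb hP
  have hKc : ∀ c, c ≠ a → N ≤ (S.Kst a c).subgroupOf (S.Ker a) := by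
    intro c hc
    set C := (S.Kst a c).subgroupOf (S.Ker a) with hC
    have hidx : C.index = p := S.relIndex_Kst hS hc
    by_contra hnot
    have hlt : C < N ⊔ C := lt_of_le_of_ne le_sup_right fun e => hnot (e ▸ le_sup_left)
    have htop : N ⊔ C = ⊤ := by
      have h := Subgroup.relIndex_mul_index hlt.le
      rw [hidx] at h
      rcases (Nat.prime_mul_iff.1 (h.symm ▸ hp)) with ⟨-, h1⟩ | ⟨-, h1⟩
      · exact Subgroup.index_eq_one.1 h1
      · exact absurd (Subgroup.relIndex_eq_one.1 h1) (not_le_of_gt hlt)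
    have hmap : C.map (QuotientGroup.mk' N) = ⊤ := by
      have h := congrArg (Subgroup.map (QuotientGroup.mk' N)) htop
      rwa [Subgroup.map_sup, QuotientGroup.map_mk'_self, bot_sup_eq,
        Subgroup.map_top_of_surjective _ (QuotientGroup.mk'_surjective N)] at h
    have hdvd : Nat.card (S.Ker a ⧸ N) ∣ Nat.card C := by
      rw [← Subgroup.card_top (G := S.Ker a ⧸ N), ← hmap]
      exact Subgroup.card_map_dvd _ _
    have hcard := Subgroup.card_eq_card_quotient_mul_card_subgroup N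
    have hpK : p ∣ Nat.card (S.Ker a) := by
      have h := Subgroup.card_dvd_of_le (Subgroup.zpowers_le.2 hτ : Subgroup.zpowers τ ≤ S.Ker a)
      rwa [Nat.card_zpowers, ho] at h
    rw [hcard] at hpK
    rcases hp.dvd_mul.1 hpK with h | h
    · have h2 := h.trans hdvd
      rw [hC, Nat.card_congr (Subgroup.subgroupOfEquivOfLe
        (show S.Kst a c ≤ S.Ker a from inf_le_left)).toEquiv] at h2
      exact S.not_dvd_Kst hS hc h2
    · exact hNp h
  haveI := hS.faithful
  apply FaithfulSMul.eq_of_smul_eq_smul (α := Ω)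
  intro z
  rw [one_smul]
  rcases eq_or_ne z a with rfl | hz
  · exact hn.1
  · have hm : (⟨n, hn⟩ : S.Ker a) ∈ N :=
      Subgroup.mem_subgroupOf.2 ⟨hn, (mem_fixingSubgroup_iff G).2 hfix⟩
    exact mem_stabilizer_iff.1 (Subgroup.mem_subgroupOf.1 (hKc z hz hm)).2

end Sys

end Cfsg.Agent.DoublyPrimitive
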