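import Cfsg.Agent.Lib.DoublyPrimitive.Prime
import Mathlib.GroupTheory.SpecificGroups.Cyclic
import Mathlib.GroupTheory.GroupAction.MultipleTransitivity

/-!
# Imprimitive point stabilisers in doubly transitive groups of degree `p² + 1`

A `Sys` records, for every point `x`, a partition of the other points into blocks of size `p` that
is equivariant for the group.
-/

set_option autoImplicit false
set_option linter.unusedSectionVars false

namespace Cfsg.Agent.DoublyPrimitive

open MulAction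

/-- An equivariant family of partitions of `Ω - {x}` into classes of size `p`. -/
structure Sys (G Ω : Type*) [Group G] [MulAction G Ω] (p : ℕ) where
  /-- `R x y z`: the points `y`, `z` lie in one class of the partition belonging to `x`. -/
  R : Ω → Ω → Ω → Prop
  ne_left : ∀ {x y z}, R x y z → y ≠ x
  ne_right : ∀ {x y z}, R x y z → z ≠ x
  refl : ∀ {x y}, y ≠ x → R x y y
  symm : ∀ {x y z}, R x y z → R x z y
  trans : ∀ {x y z w}, R x y z → R x z w → R x y w
  smul : ∀ (g : G) {x y z}, R x y z → R (g • x) (g • y) (g • z)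
  card : ∀ {x y}, y ≠ x → Set.ncard {z | R x y z} = p

/-- The standing hypotheses. -/
structure Setting (G Ω : Type*) [Group G] [MulAction G Ω] (p : ℕ) : Prop where
  prime : p.Prime
  odd : p ≠ 2
  degree : Nat.card Ω = p ^ 2 + 1
  two : IsMultiplyPretransitive G Ω 2
  faithful : FaithfulSMul G Ω

variable {G Ω : Type*} [Group G] [Finite G] [Finite Ω] [MulAction G Ω] {p : ℕ}

/-- The size of an orbit of a subgroup as an index. -/
theorem relIndex_stabilizer (W : Subgroup G) (b : Ω) :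
    (stabilizer G b).relIndex W = (orbit W b).ncard := by
  have h : (stabilizer G b).subgroupOf W = stabilizer W b := rfl
  rw [Subgroup.relIndex, h, index_stabilizer]

theorem orbit_eq_of_ncard {W : Subgroup G} {b : Ω} {s : Set Ω} (hs : orbit W b ⊆ s)
    (hc : s.ncard ≤ (orbit W b).ncard) : orbit W b = s :=
  Set.eq_of_subset_of_ncard_le hs hc

/-- In a finite `p`-group a subgroup of index `p` is normalised by everything. -/
theorem conj_mem_of_relIndex {P Q : Subgroup G} (hP : IsPGroup p P) (hp : p.Prime) (hQ : Q ≤ P)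
    (hidx : Q.relIndex P = p) {g : G} (hg : g ∈ P) {x : G} (hx : x ∈ Q) : g * x * g⁻¹ ∈ Q := by
  haveI : Fact p.Prime := ⟨hp⟩
  have hnormal : (Q.subgroupOf P).Normal := by
    apply Subgroup.normal_of_index_eq_minFac_card
    obtain ⟨n, hn⟩ := IsPGroup.iff_card.1 hP
    have hn0 : n ≠ 0 := by
      rintro rfl
      have h1 : (Q.relIndex P) ∣ Nat.card P := Subgroup.index_dvd_card _
      rw [hidx, hn, pow_zero, Nat.dvd_one] at h1
      exact hp.ne_one h1
    rw [hn, Nat.pow_minFac hn0, hp.minFac_eq]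
    exact hidx
  exact hnormal.conj_mem ⟨x, hQ hx⟩ hx ⟨g, hg⟩

/-- The points fixed by all of a subgroup. -/
def fix (N : Subgroup G) : Set Ω := {z | ∀ n ∈ N, n • z = z}

omit [Finite G] [Finite Ω] in
theorem orbit_subset_fix {W N : Subgroup G} {b : Ω} (hb : b ∈ fix N)
    (hn : ∀ g ∈ W, ∀ n ∈ N, g⁻¹ * n * g ∈ N) : orbit W b ⊆ fix N := by
  rintro _ ⟨⟨g, hg⟩, rfl⟩ n hnN
  have h := hb _ (hn g hg n hnN)
  rw [mul_smul, mul_smul, inv_smul_eq_iff] at h
  exact h

/-- A group fixing a second point of an orbit of prime size fixes the orbit. -/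
theorem orbit_subset_fix_of_second (hp : p.Prime) {W N : Subgroup G} {u v : Ω}
    (hNW : N ≤ W) (horb : (orbit W u).ncard = p) (hv : v ∈ orbit W u) (hvu : v ≠ u)
    (hu : u ∈ fix N) (hv' : v ∈ fix N)
    (hn : ∀ g ∈ W, g • u = u → ∀ n ∈ N, g⁻¹ * n * g ∈ N) : orbit W u ⊆ fix N := by
  obtain ⟨⟨h, hh⟩, rfl⟩ := hv
  have key := conj_mem_of_fix_second hp (W := W) (S := W ⊓ stabilizer G u)
    (by rw [Subgroup.inf_relIndex_left, relIndex_stabilizer, horb]) inf_le_left (N := N)
    (le_inf hNW fun n hnN => mem_stabilizer_iff.2 (hu n hnN)) ⊥ bot_le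
    (fun w _ m hm => by rw [Subgroup.mem_bot] at hm ⊢; simp [hm])
    (fun g hg n hnN => Subgroup.mem_sup_left (hn g hg.1 (mem_stabilizer_iff.1 hg.2) n hnN))
    hh (fun h' => hvu (mem_stabilizer_iff.1 h'.2))
    (fun n hnN => ⟨W.mul_mem (W.mul_mem (W.inv_mem hh) (hNW hnN)) hh, mem_stabilizer_iff.2 (by
      rw [mul_smul, mul_smul, inv_smul_eq_iff]; exact hv' n hnN)⟩)
  rintro _ ⟨⟨w, hw⟩, rfl⟩ n hnN
  have h2 := mem_stabilizer_iff.1 (key w hw n (Subgroup.mem_sup_left hnN)).2
  rw [mul_smul, mul_smul, inv_smul_eq_iff] at h2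
  exact h2

namespace Sys

variable (S : Sys G Ω p)

/-- The class of `y` seen from `x`. -/
def blk (x y : Ω) : Set Ω := {z | S.R x y z}

/-- The line: the base together with a class. -/
def Line (x y : Ω) : Set Ω := insert x (S.blk x y)

/-- The kernel of the action of the stabiliser of `a` on its classes. -/
def Ker (a : Ω) : Subgroup G where
  carrier := {g | g • a = a ∧ ∀ y, y ≠ a → S.R a y (g • y)}
  one_mem' := ⟨one_smul G a, fun y hy => by rw [one_smul]; exact S.refl hy⟩
  mul_mem' := by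
    rintro g h ⟨hga, hg⟩ ⟨hha, hh⟩
    refine ⟨by rw [mul_smul, hha, hga], fun y hy => ?_⟩
    have h1 := hh y hy
    rw [mul_smul]
    exact S.trans h1 (hg _ (S.ne_right h1))
  inv_mem' := by
    rintro g ⟨hga, hg⟩
    have hia : g⁻¹ • a = a := inv_smul_eq_iff.2 hga.symm
    refine ⟨hia, fun y hy => ?_⟩
    have hne : g⁻¹ • y ≠ a := fun e => hy (by rw [← smul_inv_smul g y, e, hga])
    have h1 := hg _ hne
    rw [smul_inv_smul] at h1
    exact S.symm h1

/-- The stabiliser in `G_a` of the class of `b`. -/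
def SB (a b : Ω) : Subgroup G where
  carrier := {g | g • a = a ∧ (b ≠ a → S.R a b (g • b))}
  one_mem' := ⟨one_smul G a, fun hb => by rw [one_smul]; exact S.refl hb⟩
  mul_mem' := by
    rintro g h ⟨hga, hg⟩ ⟨hha, hh⟩
    refine ⟨by rw [mul_smul, hha, hga], fun hb => ?_⟩
    have h1 := S.smul g (hh hb)
    rw [hga] at h1
    rw [mul_smul]
    exact S.trans (hg hb) h1
  inv_mem' := by
    rintro g ⟨hga, hg⟩
    have hia : g⁻¹ • a = a := inv_smul_eq_iff.2 hga.symm
    refine ⟨hia, fun hb => ?_⟩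
    have h1 := S.smul g⁻¹ (hg hb)
    rw [hia, inv_smul_smul] at h1
    exact S.symm h1

/-- The stabiliser of `b` in the kernel belonging to `a`. -/
def Kst (a b : Ω) : Subgroup G := S.Ker a ⊓ stabilizer G b

omit [Finite G] [Finite Ω] in
theorem mem_Ker {a : Ω} {g : G} : g ∈ S.Ker a ↔ g • a = a ∧ ∀ y, y ≠ a → S.R a y (g • y) := Iff.rfl

omit [Finite G] [Finite Ω] in
theorem mem_SB {a b : Ω} {g : G} : g ∈ S.SB a b ↔ g • a = a ∧ (b ≠ a → S.R a b (g • b)) := Iff.rfl

omit [Finite G] [Finite Ω] in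
theorem Ker_le_SB {a b : Ω} : S.Ker a ≤ S.SB a b := fun _ hg => ⟨hg.1, fun hb => hg.2 b hb⟩

omit [Finite G] [Finite Ω] in
theorem Ker_le_stab {a : Ω} : S.Ker a ≤ stabilizer G a := fun _ hg => hg.1

omit [Finite G] [Finite Ω] in
theorem inf_stab_le_SB {a b : Ω} : stabilizer G a ⊓ stabilizer G b ≤ S.SB a b := fun g hg =>
  ⟨hg.1, fun hb => by rw [mem_stabilizer_iff.1 hg.2]; exact S.refl hb⟩

omit [Finite G] [Finite Ω] in
theorem blk_eq {x y z : Ω} (h : S.R x y z) : S.blk x z = S.blk x y :=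
  Set.ext fun _ => ⟨fun hw => S.trans h hw, fun hw => S.trans (S.symm h) hw⟩

omit [Finite G] [Finite Ω] in
theorem Line_eq {x y z : Ω} (h : S.R x y z) : S.Line x z = S.Line x y := by
  rw [Line, Line, S.blk_eq h]

omit [Finite G] [Finite Ω] in
theorem Ker_conj {a : Ω} {g k : G} (hg : g • a = a) (hk : k ∈ S.Ker a) :
    g⁻¹ * k * g ∈ S.Ker a := by
  have hia : g⁻¹ • a = a := inv_smul_eq_iff.2 hg.symm
  refine ⟨by rw [mul_smul, mul_smul, hg, hk.1, hia], fun y hy => ?_⟩
  have hne : g • y ≠ a := fun e => hy (by rw [← inv_smul_smul g y, e, hia])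
  have h := S.smul g⁻¹ (hk.2 _ hne)
  rw [hia, inv_smul_smul] at h
  rw [mul_smul, mul_smul]
  exact h

omit [Finite G] in
theorem ncard_blk {x y : Ω} (h : y ≠ x) : (S.blk x y).ncard = p := S.card h

omit [Finite G] in
theorem ncard_Line {x y : Ω} (h : y ≠ x) : (S.Line x y).ncard = p + 1 := by
  have hx : x ∉ S.blk x y := fun hx => S.ne_right hx rfl
  rw [Line, Set.ncard_insert_of_notMem hx, S.ncard_blk h]

section Trans

variable (hS : Setting G Ω p)
include hS

omit [Finite G] [Finite Ω] in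
theorem exists_map {x y x' y' : Ω} (h : x ≠ y) (h' : x' ≠ y') :
    ∃ g : G, g • x = x' ∧ g • y = y' :=
  (is_two_pretransitive_iff.1 hS.two) h h'

/-- No line has two bases. -/
theorem not_symm_line {x y : Ω} (hxy : x ≠ y) : S.Line x y ≠ S.Line y x := by
  classical
  intro he
  have hall : ∀ u v : Ω, u ≠ v → S.Line u v = S.Line v u := by
    intro u v huv
    obtain ⟨g, hgu, hgv⟩ := exists_map hS hxy huv
    have hsm : ∀ s t : Ω, S.Line (g • s) (g • t) = (fun z => g • z) '' S.Line s t := by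
      intro s t
      ext z
      constructor
      · rintro (rfl | hz)
        · exact ⟨s, Set.mem_insert _ _, rfl⟩
        · refine ⟨g⁻¹ • z, Set.mem_insert_of_mem _ ?_, smul_inv_smul g z⟩
          have h := S.smul g⁻¹ hz
          rwa [inv_smul_smul, inv_smul_smul] at h
      · rintro ⟨w, rfl | hw, rfl⟩
        · exact Set.mem_insert _ _
        · exact Set.mem_insert_of_mem _ (S.smul g hw)
    rw [← hgu, ← hgv, hsm, hsm, he]
  have hline : ∀ s t u v : Ω, s ≠ t → u ≠ v → u ∈ S.Line s t → v ∈ S.Line s t →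
      S.Line u v = S.Line s t := by
    intro s t u v hst huv hu hv
    rcases hu with rfl | hu
    · rcases hv with rfl | hv
      · exact absurd rfl huv
      · exact S.Line_eq hv
    · have h1 : S.Line u s = S.Line s t :=
        (hall u s (S.ne_right hu)).trans (S.Line_eq hu)
      rcases hv with rfl | hv
      · exact h1
      · have h2 : v ∈ S.Line u s := by rw [h1]; exact Set.mem_insert_of_mem _ hv
        rcases h2 with rfl | h2
        · exact absurd rfl huv
        · rw [S.Line_eq h2, h1]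
  let _ : Fintype Ω := Fintype.ofFinite Ω
  let pairs : Finset (Ω × Ω) := (Finset.univ : Finset Ω).offDiag
  let L : Ω × Ω → Finset Ω := fun q => (S.Line q.1 q.2).toFinset
  have hfib : ∀ l ∈ pairs.image L, (pairs.filter fun q => L q = l).card = (p + 1) * p := by
    intro l hl
    obtain ⟨⟨s, t⟩, hst, rfl⟩ := Finset.mem_image.1 hl
    have hst' : s ≠ t := (Finset.mem_offDiag.1 hst).2.2
    have : (pairs.filter fun q => L q = L (s, t)) = (L (s, t)).offDiag := by
      ext ⟨u, v⟩
      simp only [pairs, L, Finset.mem_filter, Finset.mem_offDiag, Finset.mem_univ, true_and,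
        Set.toFinset_inj, Set.mem_toFinset]
      constructor
      · rintro ⟨huv, h⟩
        rw [← h]
        exact ⟨Set.mem_insert _ _, Set.mem_insert_of_mem _ (S.refl huv.symm), huv⟩
      · rintro ⟨hu, hv, huv⟩
        exact ⟨huv, hline s t u v hst' huv hu hv⟩
    rw [this, Finset.offDiag_card]
    have hc : (L (s, t)).card = p + 1 := by
      rw [← Set.ncard_eq_toFinset_card', S.ncard_Line hst'.symm]
    rw [hc]
    rw [show (p + 1) * (p + 1) - (p + 1) = (p + 1) * p from by
      rw [mul_add, mul_one, Nat.add_sub_cancel]]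
  have hcount := Finset.card_eq_sum_card_fiberwise (f := L) (s := pairs) (t := pairs.image L)
    fun q hq => Finset.mem_image_of_mem L hq
  rw [Finset.sum_congr rfl hfib, Finset.sum_const, smul_eq_mul, Finset.offDiag_card,
    Finset.card_univ, ← Nat.card_eq_fintype_card, hS.degree] at hcount
  have h1 : (p ^ 2 + 1) * (p ^ 2 + 1) - (p ^ 2 + 1) = (p ^ 2 + 1) * p * p := by
    rw [mul_add, mul_one, Nat.add_sub_cancel]; ring
  rw [h1, ← mul_assoc] at hcount
  have h2 : (p ^ 2 + 1) * p = (pairs.image L).card * (p + 1) :=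
    Nat.eq_of_mul_eq_mul_right hS.prime.pos hcount
  have h3 : (p + 1) ∣ (p ^ 2 + 1) * p + 2 := by
    have : (p ^ 2 + 1) * p + 2 + p * (p + 1) = (p + 1) * (p ^ 2 + 2) := by ring
    have h4 : (p + 1) ∣ (p ^ 2 + 1) * p + 2 + p * (p + 1) := this ▸ dvd_mul_right _ _
    exact (Nat.dvd_add_left (dvd_mul_left _ _)).1 h4
  rw [h2] at h3
  have h4 : p + 1 ≤ 2 := Nat.le_of_dvd two_pos ((Nat.dvd_add_right (dvd_mul_left _ _)).1 h3)
  have := hS.prime.two_le
  omega

/-- The base of a line is unique. -/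
theorem base_unique {a b c d : Ω} (hb : b ≠ a) (hd : d ≠ c) (h : S.Line a b = S.Line c d) :
    a = c := by
  by_contra hac
  have hc : c ∈ S.Line a b := h ▸ Set.mem_insert c _
  have ha : a ∈ S.Line c d := h ▸ Set.mem_insert a _
  rcases hc with rfl | hc
  · exact hac rfl
  rcases ha with rfl | ha
  · exact hac rfl
  exact S.not_symm_line hS hac (by rw [S.Line_eq hc, S.Line_eq ha, h])

/-- A point stabiliser is transitive on the other points. -/
theorem orbit_stab {a b : Ω} (hb : b ≠ a) :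
    orbit (stabilizer G a) b = {a}ᶜ := by
  ext z
  constructor
  · rintro ⟨⟨g, hg⟩, rfl⟩ (h : g • b = a)
    exact hb (MulAction.injective g (h.trans hg.symm))
  · intro hz
    obtain ⟨g, hga, hgb⟩ := exists_map hS (Ne.symm hb) (Ne.symm hz)
    exact ⟨⟨g, hga⟩, hgb⟩

theorem card_stab {a b : Ω} (hb : b ≠ a) :
    p ^ 2 * Nat.card ↥(stabilizer G a ⊓ stabilizer G b) = Nat.card (stabilizer G a) := by
  have h := (Subgroup.index_mul_card
    ((stabilizer G a ⊓ stabilizer G b).subgroupOf (stabilizer G a)))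
  rw [← Subgroup.relIndex, Subgroup.inf_relIndex_left, relIndex_stabilizer, orbit_stab hS hb,
    Nat.card_congr (Subgroup.subgroupOfEquivOfLe inf_le_left).toEquiv, Set.ncard_compl,
    Set.ncard_singleton, hS.degree, Nat.add_sub_cancel] at h
  exact h

theorem relIndex_SB {a b : Ω} (hb : b ≠ a) :
    (S.SB a b).relIndex (stabilizer G a) = p ∧ orbit (S.SB a b) b = S.blk a b := by
  have horb : orbit (S.SB a b) b = S.blk a b := by
    ext z
    constructor
    · rintro ⟨⟨g, hg⟩, rfl⟩; exact hg.2 hb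
    · intro hz
      obtain ⟨⟨g, hga⟩, hgz⟩ := (orbit_stab hS hb).symm.subset (S.ne_right hz : z ∈ ({a}ᶜ : Set Ω))
      exact ⟨⟨g, hga, fun _ => by rw [show g • b = z from hgz]; exact hz⟩, hgz⟩
  refine ⟨?_, horb⟩
  have h1 : (stabilizer G a ⊓ stabilizer G b).relIndex (S.SB a b) = p := by
    have h : (stabilizer G a ⊓ stabilizer G b) ⊓ S.SB a b = stabilizer G b ⊓ S.SB a b := by
      rw [inf_assoc, inf_eq_right]
      exact inf_le_right.trans fun g hg => hg.1
    rw [← Subgroup.inf_relIndex_right, h, Subgroup.inf_relIndex_right, relIndex_stabilizer, horb,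
      S.ncard_blk hb]
  have h2 : (stabilizer G a ⊓ stabilizer G b).relIndex (stabilizer G a) = p ^ 2 := by
    rw [Subgroup.inf_relIndex_left, relIndex_stabilizer, orbit_stab hS hb, Set.ncard_compl,
      Set.ncard_singleton, hS.degree, Nat.add_sub_cancel]
  have h3 := Subgroup.relIndex_mul_relIndex _ _ _ S.inf_stab_le_SB
    (show S.SB a b ≤ stabilizer G a from fun g hg => hg.1)
  rw [h1, h2, sq] at h3
  exact Nat.eq_of_mul_eq_mul_left hS.prime.pos h3

/-- A subgroup of `G_ab` normalised by it that fixes a point outside the line fixes every class. -/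
theorem le_Ker_of_fix {a b c : Ω} (hb : b ≠ a) (hca : c ≠ a) (hc : ¬ S.R a b c) {N : Subgroup G}
    (hN : N ≤ stabilizer G a ⊓ stabilizer G b)
    (hn : ∀ g ∈ stabilizer G a ⊓ stabilizer G b, ∀ n ∈ N, g⁻¹ * n * g ∈ N)
    (hfix : c ∈ fix N) (htrans : orbit (S.Ker a) b = S.blk a b) : N ≤ S.Ker a := by
  obtain ⟨⟨h, hh⟩, hhc⟩ := (orbit_stab hS hb).symm.subset (hca : c ∈ ({a}ᶜ : Set Ω))
  have hhc' : h • b = c := hhc
  have key := conj_mem_of_fix_second hS.prime (W := stabilizer G a) (S := S.SB a b)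
    (S.relIndex_SB hS hb).1 (fun g hg => hg.1) (N := N) (hN.trans S.inf_stab_le_SB) (S.Ker a)
    S.Ker_le_SB (fun w hw m hm => S.Ker_conj hw hm)
    (fun g hg n hnN => by
      obtain ⟨⟨k, hk⟩, hkb⟩ := htrans.symm.subset (hg.2 hb : g • b ∈ S.blk a b)
      have hkb' : k • b = g • b := hkb
      have hg0 : k⁻¹ * g ∈ stabilizer G a ⊓ stabilizer G b :=
        ⟨mem_stabilizer_iff.2 (by rw [mul_smul, hg.1, inv_smul_eq_iff, hk.1]),
          mem_stabilizer_iff.2 (by rw [mul_smul, inv_smul_eq_iff, hkb'])⟩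
      have e : g⁻¹ * n * g = ((k⁻¹ * g)⁻¹ * n * (k⁻¹ * g)) *
          ((k⁻¹ * g)⁻¹ * (n⁻¹ * (k⁻¹ * n * k)) * (k⁻¹ * g)) := by group
      rw [e]
      refine mul_mem (Subgroup.mem_sup_left (hn _ hg0 n hnN)) (Subgroup.mem_sup_right
        (S.Ker_conj hg0.1 ?_))
      have h1 := S.Ker_conj (k := k⁻¹) (mem_stabilizer_iff.1 (hN hnN).1) (inv_mem hk)
      have h2 := mul_mem h1 hk
      simpa [mul_assoc] using h2)
    hh (fun h' => hc (hhc' ▸ h'.2 hb))
    (fun n hnN => by
      have e : (h⁻¹ * n * h) • b = b := by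
        rw [mul_smul, mul_smul, hhc', hfix n hnN, ← hhc', inv_smul_smul]
      refine S.inf_stab_le_SB ⟨?_, mem_stabilizer_iff.2 e⟩
      exact (stabilizer G a).mul_mem
        ((stabilizer G a).mul_mem ((stabilizer G a).inv_mem hh) (hN hnN).1) hh)
  intro n hnN
  refine ⟨(hN hnN).1, fun y hy => ?_⟩
  obtain ⟨⟨w, hw⟩, hwy⟩ := (orbit_stab hS hb).symm.subset (hy : y ∈ ({a}ᶜ : Set Ω))
  have hwy' : w • b = y := hwy
  have h3 := S.smul w ((key w hw n (Subgroup.mem_sup_left hnN)).2 hb)
  rw [mul_smul, mul_smul, hwy', smul_inv_smul, mem_stabilizer_iff.1 hw] at h3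
  exact h3

end Trans

end Sys

end Cfsg.Agent.DoublyPrimitive
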